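import Groth.Agent.MeroLib.RegSec
import Groth.Agent.TwistLib.SpecSections

/-!
# Regular meromorphic sections when the weakly associated points are few
-/

set_option autoImplicit false
universe u

open CategoryTheory AlgebraicGeometry TopologicalSpace Opposite
open AmpleLib (GenAt GenOn res)
open ModGlueLib (rs exists_glue)

noncomputable section

namespace MeroLib

variable {X : Scheme.{u}} {L : X.Modules}

/-- An open without weakly associated points is empty. -/
theorem notMem_of_no_weak {U : X.Opens} (h : ∀ y ∈ U, ¬ Weak y) (x : X) : x ∉ U := fun hx => by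
  obtain ⟨y, hy, -, hw, -⟩ := exists_weak hx (1 : Γ(X, U)) (by rw [map_one]; exact one_ne_zero)
  exact h y hy hw

theorem hasRegularMero_of_incomparable (hX : FiniteWeak X)
    (hinc : ∀ x y : X, Weak x → Weak y → y ⤳ x → y = x) (hL : PicF.IsInvertible L) :
    Mero.HasRegularMero L := by
  have key : ∀ y : {y : X // Weak y}, ∃ (V : X.Opens) (e : Γ(L, V)), y.1 ∈ V ∧ GenOn L e ∧
      ∀ z ∈ V, Weak z → z = y.1 := by
    rintro ⟨y, hy⟩
    obtain ⟨U, g, hyU, hg⟩ := TwistLib.exists_genOn hL y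
    obtain ⟨A, hA, hyA, hAU⟩ := exists_isAffineOpen_mem_and_subset (x := y) (U := U) hyU
    let P := {z : X | (z ∈ A ∧ Weak z) ∧ z ≠ y}
    let C : Set X := ⋃ z ∈ P, closure {z}
    have hC : IsClosed C := ((hX A hA).subset fun z hz => hz.1).isClosed_biUnion fun z _ => isClosed_closure
    have hyC : y ∉ C := fun h => by
      obtain ⟨z, hzP, hzy⟩ := Set.mem_iUnion₂.1 h
      exact hzP.2 (hinc y z hy hzP.1.2 (specializes_iff_mem_closure.2 hzy))
    let V : X.Opens := A ⊓ ⟨Cᶜ, hC.isOpen_compl⟩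
    refine ⟨V, res L (inf_le_left.trans hAU : V ≤ U) g, ⟨hyA, hyC⟩, hg.res _, fun z hz hw => ?_⟩
    by_contra hne
    exact hz.2 (Set.mem_biUnion (⟨⟨hz.1, hw⟩, hne⟩ : z ∈ P) (subset_closure rfl))
  choose V e hyV he hV using key
  obtain ⟨σ, hσ⟩ := exists_glue (M := L) (V := ⨆ y, V y) V (le_iSup V) (fun x hx => Opens.mem_iSup.1 hx) e
    fun a b => by
      by_cases hab : a = b
      · subst hab; rfl
      refine TopCat.Presheaf.section_ext (⟨L.presheaf, L.isSheaf⟩ : TopCat.Sheaf AddCommGrpCat _) _ _ _ fun x hx => ?_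
      refine absurd hx (notMem_of_no_weak (fun z hz hw => hab (Subtype.ext ?_)) x)
      exact (hV a z hz.1 hw).symm.trans (hV b z hz.2 hw)
  refine hasRegularMero_of_gen hX hL _ σ (fun y hy => Opens.mem_iSup.2 ⟨⟨y, hy⟩, hyV ⟨y, hy⟩⟩) fun y hy hw => ?_
  rw [← AmpleLib.genAt_res (le_iSup V ⟨y, hw⟩) σ (hyV ⟨y, hw⟩)]
  change GenAt L (rs L (le_iSup V ⟨y, hw⟩) σ) _
  rw [hσ]
  exact (he _).genAt _

theorem finiteWeak_of_components [IsReduced X] (hb : ∀ U : X.Opens, IsCompact (U : Set X) →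
    (irreducibleComponents ↥(U : Scheme.{u})).Finite) : FiniteWeak X :=
  finiteWeak_of_maximal (fun _ hx _ hy => Weak.eq_of_specializes hx hy) (finite_maximal_of_components hb)

theorem finiteWeak_of_locallyFinite [IsReduced X] (hb : ∀ x : X, ∃ W : X.Opens, x ∈ W ∧
    {Z : Set X | Z ∈ irreducibleComponents X ∧ (Z ∩ (W : Set X)).Nonempty}.Finite) : FiniteWeak X :=
  finiteWeak_of_maximal (fun _ hx _ hy => Weak.eq_of_specializes hx hy) (finite_maximal_of_locallyFinite hb)

end MeroLib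

end
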