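import Groth.Agent.MeroLib.MerMod

/-!
# Existence of regular meromorphic sections
-/

set_option autoImplicit false
universe u

open CategoryTheory AlgebraicGeometry TopologicalSpace Opposite
open AmpleLib (GenAt GenOn res)
open ModGlueLib (rs exists_glue)
open scoped nonZeroDivisors

noncomputable section

namespace MeroLib

variable {X : Scheme.{u}} {L : X.Modules}

theorem app_res' {M N : X.Modules} (φ : M ⟶ N) {U V : X.Opens} (h : V ≤ U) (x : Γ(M, U)) :
    φ.app V (res M h x) = res N h (φ.app U x) :=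
  ConcreteCategory.congr_hom (φ.mapPresheaf.naturality (homOfLE h).op) x

theorem genOn_iso {M N : X.Modules} (φ : M ⟶ N) [IsIso φ] {U : X.Opens} {σ : Γ(M, U)} (hσ : GenOn M σ) :
    GenOn N (φ.app U σ) := fun V hV => by
  have e : (fun r : Γ(X, V) => r • res N hV (φ.app U σ)) = (φ.app V) ∘ fun r : Γ(X, V) => r • res M hV σ :=
    funext fun r => by rw [Function.comp_apply, Scheme.Modules.Hom.app_smul, app_res']
  rw [e]
  exact (ConcreteCategory.bijective_of_isIso _).comp (hσ V hV)

/-- The module of a divisor has a regular meromorphic section. -/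
theorem hasRegularMero_of_iso (D : Mero.Divisor X) (φ : L ≅ Mero.divMod D) : Mero.HasRegularMero L := by
  choose U hx f hf using fun x : X => D.2 x
  let e : ∀ x, Γ(L, U x) := fun x => φ.inv.app (U x) (gen (f x) (hf x))
  have he : ∀ x, GenOn L (e x) := fun x => genOn_iso φ.inv (genOn_gen (f x) (hf x))
  obtain ⟨s, hs⟩ := exists_glue (M := Mero.merMod L) (V := ⊤) U (fun _ => le_top) (fun x _ => ⟨x, hx x⟩)
    (fun x => smulGen (f x : Γ(Mero.kmod X, U x)) (e x)) fun a b => mext fun y hy => by
      show val (f a : Γ(Mero.kmod X, U a)) y hy.1 • gen1 (e a) y hy.1 =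
        val (f b : Γ(Mero.kmod X, U b)) y hy.2 • gen1 (e b) y hy.2
      obtain ⟨c, hc⟩ := (genOn_gen (f a) (hf a) (U a ⊓ U b) inf_le_left).2
        (res (Mero.divMod D) inf_le_right (gen (f b) (hf b)))
      dsimp only at hc
      have h1 : dval (c • res (Mero.divMod D) inf_le_left (gen (f a) (hf a))) y hy =
          dval (res (Mero.divMod D) inf_le_right (gen (f b) (hf b))) y hy := by rw [hc]
      rw [dval_smul, dval_res, dval_res, dval_gen, dval_gen] at h1
      have h2 := congrArg (φ.inv.app _) hc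
      rw [Scheme.Modules.Hom.app_smul, app_res', app_res'] at h2
      have h3 := congrArg (fun t => gen1 t y hy) h2
      simp only [gen1_smul, gen1_res] at h3
      change _ • gen1 (e a) y hy.1 = gen1 (e b) y hy.2 at h3
      rw [← h3, smul_smul]
      congr 1
      calc val (f a : Γ(Mero.kmod X, U a)) y hy.1
          = val (f b : Γ(Mero.kmod X, U b)) y hy.2 * val ((f b)⁻¹ : (Γ(Mero.kmod X, U b))ˣ).1 y hy.2 *
            val (f a : Γ(Mero.kmod X, U a)) y hy.1 := by rw [val_mul_inv, one_mul]
        _ = val (f b : Γ(Mero.kmod X, U b)) y hy.2 * (algebraMap _ _ (X.presheaf.germ _ y hy c) *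
            (val (f a : Γ(Mero.kmod X, U a)) y hy.1 * val ((f a)⁻¹ : (Γ(Mero.kmod X, U a))ˣ).1 y hy.1)) := by
          rw [← h1]; ring
        _ = _ := by rw [val_mul_inv, mul_one]
  refine ⟨s, isRegular_of_local s fun x => ⟨U x, hx x, e x, f x, (he x).genAt _, ?_⟩⟩
  exact congrArg (fun t => mval t x (hx x)) (hs x)

/-- A section generating at the weakly associated points gives a regular meromorphic section. -/
theorem hasRegularMero_of_gen (hX : FiniteWeak X) (hL : PicF.IsInvertible L) (V : X.Opens) (σ : Γ(L, V))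
    (hV : ∀ y : X, Weak y → y ∈ V) (hσ : ∀ (y : X) (hy : y ∈ V), Weak y → GenAt L σ hy) :
    Mero.HasRegularMero L := by
  choose U g hxU hg using fun x : X => TwistLib.exists_genOn hL x
  have hr := fun x => (hg x (U x ⊓ V) inf_le_left).2 (res L inf_le_right σ)
  choose r hr using hr
  have hu := fun x => exists_extension hX (U x) (U x ⊓ V) inf_le_left (fun y hy hw => ⟨hy, hV y hw⟩) (r x)
  choose u hu using hu
  have huv : ∀ x y (hy : y ∈ U x) (hyV : y ∈ V), val (u x) y hy • gen1 (g x) y hy = gen1 σ y hyV := fun x y hy hyV => by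
    have h1 := congrArg (fun t => gen1 t y (⟨hy, hyV⟩ : y ∈ U x ⊓ V)) (hr x)
    simp only [gen1_smul, gen1_res] at h1
    rw [← h1, ← val_toK, ← hu x, val_res]
  obtain ⟨s, hs⟩ := exists_glue (M := Mero.merMod L) (V := ⊤) U (fun _ => le_top) (fun x _ => ⟨x, hxU x⟩)
    (fun x => smulGen (u x) (g x)) fun a b => by
      obtain ⟨w, hw⟩ := exists_coeff ((hg a).res (inf_le_left : U a ⊓ U b ≤ U a))
        ((Mero.merMod L).presheaf.map (homOfLE (inf_le_right : U a ⊓ U b ≤ U b)).op (smulGen (u b) (g b)))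
      have h1 : w = (Mero.kmod X).presheaf.map (homOfLE (inf_le_left : U a ⊓ U b ≤ U a)).op (u a) :=
        eq_of_res (V := V) (fun y _ hw => hV y hw) _ _ fun y hy hyV => by
          refine smul_gen1_cancel (((hg a).res (inf_le_left : U a ⊓ U b ≤ U a)).genAt hy) ?_
          rw [← hw y hy, val_res, gen1_res]
          exact (huv b y hy.2 hyV).trans (huv a y hy.1 hyV).symm
      refine mext fun y hy => ?_
      show mval (smulGen (u a) (g a)) y hy.1 =
        mval ((Mero.merMod L).presheaf.map (homOfLE (inf_le_right : U a ⊓ U b ≤ U b)).op (smulGen (u b) (g b))) y hy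
      rw [hw y hy, h1, val_res, gen1_res]
      rfl
  refine ⟨s, isRegular_of_local s fun x => ?_⟩
  obtain ⟨W, hW, a, b, hxW, hab⟩ := exists_frac (u x) (hxU x)
  have ha : a ∈ Mero.regSub X W := mem_regSub_of_weak a fun y hy hw => by
    have hyV := hV y hw
    have hru : IsUnit (X.presheaf.germ (U x ⊓ V) y ⟨hW hy, hyV⟩ (r x)) := by
      refine (X.mem_basicOpen _ y _).1 ((AmpleLib.genAt_smul_iff _ _ (⟨hW hy, hyV⟩ : y ∈ U x ⊓ V) (((hg x).res inf_le_left).genAt _)).1 ?_)
      dsimp only at hr
      rw [hr x, AmpleLib.genAt_res]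
      exact hσ y hyV hw
    have h2 : frac (X.presheaf.germ W y hy a) (Mero.regGerm ⟨y, hy⟩ b) =
        algebraMap _ _ (X.presheaf.germ (U x ⊓ V) y ⟨hW hy, hyV⟩ (r x)) := by
      rw [← hab y hy, ← val_toK, ← hu x, val_res]
    rw [frac, IsLocalization.mk'_eq_iff_eq_mul, ← map_mul, (Mero.algebraMap_KStalk_injective y).eq_iff] at h2
    rw [h2]
    exact hru.mul (hw.isUnit_germ b.2 hy)
  refine ⟨W, hxW, res L hW (g x), (isUnit_fracSec ha b).unit, ((hg x).res _).genAt _, ?_⟩
  rw [IsUnit.unit_spec, val_fracSec, ← hab x hxW, gen1_res]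
  exact congrArg (fun t => mval t x (hW hxW)) (hs x)

end MeroLib

end
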