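import Groth.Agent.MeroLib.MerMod
import Groth.Agent.CurvLib.Line
import Groth.Agent.QCohLib.AffineFinite
import Groth.Agent.TwistLib.SpecSections
import Groth.Prelude.Def_PicF2

/-!
# The ideal of a section of an invertible module
-/

set_option autoImplicit false
universe u

open CategoryTheory AlgebraicGeometry TopologicalSpace Opposite
open AmpleLib (GenAt GenOn res)

noncomputable section

namespace MeroLib

variable {X : Scheme.{u}} {L : X.Modules}

/-- The value of a section over an open. -/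
abbrev secOn (s : Coh.structureModule X ⟶ L) (U : X.Opens) : Γ(L, U) := PicF2.secVal L s U

theorem secOn_res (s : Coh.structureModule X ⟶ L) {U V : X.Opens} (h : V ≤ U) :
    res L h (secOn s U) = secOn s V :=
  (NatTrans.naturality_apply s.mapPresheaf (homOfLE h).op (1 : Γ(X, U))).symm.trans
    (congrArg (s.app V) (map_one (X.presheaf.map (homOfLE h).op).hom))

/-- `{a | a L(U) ⊆ O(U) s}` -/
abbrev zIdeal (s : Coh.structureModule X ⟶ L) (U : X.Opens) : Ideal Γ(X, U) := PicF2.zeroIdealOn L s U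

theorem mem_zIdeal {s : Coh.structureModule X ⟶ L} {U : X.Opens} {a : Γ(X, U)} :
    a ∈ zIdeal s U ↔ ∀ m : Γ(L, U), ∃ b : Γ(X, U), a • m = b • secOn s U := Iff.rfl

theorem zIdeal_basicOpen (hL : PicF.IsInvertible L) (s : Coh.structureModule X ⟶ L) {U : X.Opens}
    (hU : IsAffineOpen U) (f : Γ(X, U)) :
    (zIdeal s U).map (X.presheaf.map (homOfLE (X.basicOpen_le f)).op).hom = zIdeal s (X.basicOpen f) := by
  classical
  have := hU.isLocalization_basicOpen f
  haveI : Coh.IsQCoh L := TwistLib.isQCoh_of_isInvertible hL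
  obtain ⟨⟨T, hT⟩⟩ := QCohLib.finite_of_isFT (CurvLib.isCoh_of_isInvertible hL).2 hU
  have hloc := QCohLib.localizingAt_of_isQCoh hU L f
  let ρ := X.presheaf.map (homOfLE (X.basicOpen_le f)).op
  have hu : IsUnit (ρ f) :=
    (QCohLib.isUnit_res f (le_refl (X.basicOpen f))).choose_spec ▸ Units.isUnit _
  refine le_antisymm (Ideal.map_le_iff_le_comap.mpr fun a ha => mem_zIdeal.2 fun n => ?_) fun b hb => ?_
  · obtain ⟨k, t, ht⟩ := hloc.exists_extend n
    obtain ⟨b, hb⟩ := mem_zIdeal.1 ha t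
    obtain ⟨v, hv⟩ := hu.pow k
    refine ⟨(↑v⁻¹ : Γ(X, X.basicOpen f)) * ρ b, ?_⟩
    have h1 := congrArg (res L (X.basicOpen_le f)) hb
    rw [AmpleLib.res_smul, AmpleLib.res_smul, secOn_res] at h1
    rw [mul_smul, ← h1]
    change ρ a • n = (↑v⁻¹ : Γ(X, X.basicOpen f)) • ρ a • res L _ t
    rw [show res L (X.basicOpen_le f) t = (v : Γ(X, X.basicOpen f)) • n from ht.trans (congrArg (· • n) hv.symm),
      smul_smul, smul_smul, mul_right_comm, Units.inv_mul, one_mul]
  · obtain ⟨⟨a, ⟨_, k, rfl⟩⟩, hab⟩ := IsLocalization.surj (Submonoid.powers f) b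
    have hab' : b * ρ f ^ k = ρ a := by rw [← map_pow]; exact hab
    have hz : ∀ t ∈ T, ∃ m : ℕ, ∀ N, m ≤ N → ∃ c : Γ(X, U), (f ^ N * a) • t = c • secOn s U := fun t _ => by
      obtain ⟨β, hβ⟩ := mem_zIdeal.1 hb (res L (X.basicOpen_le f) t)
      obtain ⟨⟨β₀, ⟨_, j, rfl⟩⟩, hj⟩ := IsLocalization.surj (Submonoid.powers f) β
      have hj' : β * ρ f ^ j = ρ β₀ := by rw [← map_pow]; exact hj
      have h0 : L.presheaf.map (homOfLE (X.basicOpen_le f)).op ((f ^ j * a) • t - (f ^ k * β₀) • secOn s U) = 0 := by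
        rw [map_sub, sub_eq_zero]
        refine (AmpleLib.res_smul L _ _ t).trans (Eq.trans ?_ (AmpleLib.res_smul L _ _ (secOn s U)).symm)
        rw [secOn_res]
        change ρ (f ^ j * a) • _ = ρ (f ^ k * β₀) • _
        rw [map_mul, map_mul, map_pow, map_pow, ← hab', ← hj', ← mul_assoc, mul_right_comm, mul_smul, hβ, smul_smul]
        congr 1
        ring
      obtain ⟨m, hm⟩ := hloc.eq_zero _ h0
      refine ⟨m + j, fun N hN => ?_⟩
      obtain ⟨e, rfl⟩ := Nat.exists_eq_add_of_le hN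
      refine ⟨f ^ (e + m + k) * β₀, ?_⟩
      have hm' : f ^ m • ((f ^ j * a) • t - (f ^ k * β₀) • secOn s U) = 0 := by simpa using hm
      rw [smul_sub, sub_eq_zero, smul_smul, smul_smul] at hm'
      have h2 := congrArg (fun z => f ^ e • z) hm'
      simp only [smul_smul] at h2
      rw [show f ^ (m + j + e) * a = f ^ e * (f ^ m * (f ^ j * a)) by ring,
        show f ^ (e + m + k) * β₀ = f ^ e * (f ^ m * (f ^ k * β₀)) by ring]
      exact h2
    choose m hm using hz
    let N := Finset.univ.sup fun t : T => m t.1 t.2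
    have hN : f ^ N * a ∈ zIdeal s U := mem_zIdeal.2 fun n => by
      have hn : n ∈ Submodule.span Γ(X, U) (T : Set Γ(L, U)) := hT ▸ Submodule.mem_top
      induction hn using Submodule.span_induction with
      | mem t ht => exact hm t ht N (Finset.le_sup (f := fun t : T => m t.1 t.2) (Finset.mem_univ ⟨t, ht⟩))
      | zero => exact ⟨0, by rw [smul_zero, zero_smul]⟩
      | add x y _ _ hx hy =>
        obtain ⟨c, hc⟩ := hx
        obtain ⟨d, hd⟩ := hy
        exact ⟨c + d, by rw [smul_add, hc, hd, add_smul]⟩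
      | smul r x _ hx =>
        obtain ⟨c, hc⟩ := hx
        exact ⟨r * c, by rw [smul_comm, hc, smul_smul]⟩
    have hmem := Ideal.mem_map_of_mem ρ.hom hN
    rw [map_mul, map_pow] at hmem
    have h2 : (ρ f) ^ N * ((ρ f) ^ k * b) ∈ Ideal.map ρ.hom (zIdeal s U) := by
      rw [mul_comm ((ρ f) ^ k) b, hab']
      exact hmem
    exact (Ideal.unit_mul_mem_iff_mem _ (hu.pow k)).mp ((Ideal.unit_mul_mem_iff_mem _ (hu.pow N)).mp h2)

/-- The zero scheme has the expected ideals. -/
theorem zeroScheme_ideal (hL : PicF.IsInvertible L) (s : Coh.structureModule X ⟶ L) (U : X.affineOpens) :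
    (PicF2.zeroScheme L s).ideal U = zIdeal s U.1 := by
  let I : X.IdealSheafData :=
    { ideal := fun U => zIdeal s U.1, map_ideal_basicOpen := fun U f => zIdeal_basicOpen hL s U.2 f }
  rw [show PicF2.zeroScheme L s = I from Scheme.IdealSheafData.ofIdeals_ideal I]

theorem zeroScheme_ideal_of_genOn (hL : PicF.IsInvertible L) (s : Coh.structureModule X ⟶ L) {W : X.affineOpens}
    {g : Γ(L, W.1)} (hg : GenOn L g) {c : Γ(X, W.1)} (hc : c • g = secOn s W.1) :
    (PicF2.zeroScheme L s).ideal W = Ideal.span {c} := by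
  rw [zeroScheme_ideal hL s W]
  refine le_antisymm (fun a ha => ?_) (Ideal.span_le.2 (Set.singleton_subset_iff.2 (mem_zIdeal.2 fun m => ?_)))
  · obtain ⟨b, hb⟩ := mem_zIdeal.1 ha g
    rw [← hc, smul_smul] at hb
    refine Ideal.mem_span_singleton'.2 ⟨b, ((hg W.1 le_rfl).1 ?_).symm⟩
    simp only [AmpleLib.res_refl]
    exact hb
  · obtain ⟨r, hr⟩ := (hg W.1 le_rfl).2 m
    simp only [AmpleLib.res_refl] at hr
    exact ⟨r, by rw [← hr, ← hc, smul_smul, smul_smul, mul_comm]⟩

end MeroLib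

end
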