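import Groth.Agent.MeroLib.Basic
import Groth.Agent.RefHullLib.Reflexive
import Groth.Agent.AssPointLib.Basic

/-!
# Zero divisors and weakly associated points
-/

set_option autoImplicit false
universe u

open CategoryTheory AlgebraicGeometry TopologicalSpace Opposite
open scoped nonZeroDivisors

noncomputable section

namespace MeroLib

variable {X : Scheme.{u}}

/-- Weakly associated points of the structure sheaf. -/
abbrev Weak (x : X) : Prop := Curv2.IsWeakAssPoint (Coh.structureModule X) x

theorem germ_unit_zero {V : X.Opens} {x : X} (hx : x ∈ V) (r : Γ(X, V)) :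
    X.presheaf.germ V x hx r = 0 ↔
      (Coh.structureModule X).presheaf.germ V x hx (show Γ(Coh.structureModule X, V) from r) = 0 := by
  constructor
  · intro h
    obtain ⟨W, hxW, i, i', e⟩ := X.presheaf.germ_eq x hx hx r 0 (h.trans (map_zero _).symm)
    rw [← TopCat.Presheaf.germ_res_apply (Coh.structureModule X).presheaf i x hxW]
    change (Coh.structureModule X).presheaf.germ W x hxW (X.presheaf.map i.op r) = 0
    rw [show X.presheaf.map i.op r = 0 from e.trans (map_zero _)]
    exact map_zero _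
  · intro h
    obtain ⟨W, hxW, i, i', e⟩ := (Coh.structureModule X).presheaf.germ_eq x hx hx _ 0 (h.trans (map_zero _).symm)
    rw [← TopCat.Presheaf.germ_res_apply X.presheaf i x hxW r]
    change X.presheaf.germ W x hxW ((Coh.structureModule X).presheaf.map i.op
      (show Γ(Coh.structureModule X, V) from r) : Γ(X, W)) = 0
    rw [e.trans (map_zero _)]
    exact map_zero _

/-- At a weakly associated point only units are nonzerodivisors. -/
theorem Weak.isUnit {x : X} (h : Weak x) {g : X.presheaf.stalk x} (hg : g ∈ (X.presheaf.stalk x)⁰) : IsUnit g := by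
  by_contra hu
  obtain ⟨m, hm⟩ := h
  obtain ⟨e⟩ := RefHullLib.nonempty_stalk_unit X x
  obtain ⟨n, hn⟩ : g ∈ Ideal.radical (LinearMap.ker (LinearMap.toSpanSingleton (X.presheaf.stalk x)
      ((Coh.structureModule X).presheaf.stalk x) m)) := hm ▸ (IsLocalRing.mem_maximalIdeal _).2 hu
  have h0 : g ^ n * e.symm m = 0 := by
    rw [← smul_eq_mul, ← map_smul, show g ^ n • m = 0 from hn, map_zero]
  have hm0 : m = 0 := by
    have h1 : e.symm m = 0 := (mem_nonZeroDivisors_iff.1 (pow_mem hg n)).1 _ h0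
    exact e.symm.map_eq_zero_iff.1 h1
  refine (IsLocalRing.maximalIdeal.isMaximal (X.presheaf.stalk x)).ne_top ?_
  rw [← hm, hm0, Ideal.eq_top_iff_one]
  exact Ideal.le_radical (show (1 : X.presheaf.stalk x) • (0 : (Coh.structureModule X).presheaf.stalk x) = 0 from
    smul_zero _)

/-- A nonzero germ is nonzero at some weakly associated generisation. -/
theorem exists_weak {V : X.Opens} {x : X} (hx : x ∈ V) (r : Γ(X, V)) (hr : X.presheaf.germ V x hx r ≠ 0) :
    ∃ (y : X) (hy : y ∈ V), y ⤳ x ∧ Weak y ∧ X.presheaf.germ V y hy r ≠ 0 := by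
  haveI : Coh.IsQCoh (Coh.structureModule X) := QCohLib.isQCoh_unit
  obtain ⟨U, hU, hxU, hUV⟩ := exists_isAffineOpen_mem_and_subset (x := x) (U := V) hx
  let r' : Γ(X, U) := X.presheaf.map (homOfLE hUV).op r
  have h1 : ∀ (y : X) (hy : y ∈ U), X.presheaf.germ U y hy r' = X.presheaf.germ V y (hUV hy) r := fun y hy =>
    germ_res hUV r y hy
  obtain ⟨y, hyU, hyx, hw, hne⟩ := AssPointLib.exists_weak_specializes (M := Coh.structureModule X) hU hxU
    (show Γ(Coh.structureModule X, U) from r') (fun h => hr ((h1 x hxU).symm.trans ((germ_unit_zero hxU r').2 h)))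
  exact ⟨y, hUV hyU, hyx, hw, fun h => hne ((germ_unit_zero hyU r').1 ((h1 y hyU).trans h))⟩

/-- A germ which is a unit at the weakly associated generisations is a nonzerodivisor. -/
theorem mem_nzd_of_weak {V : X.Opens} (f : Γ(X, V)) {x : X} (hx : x ∈ V)
    (h : ∀ (y : X) (hy : y ∈ V), y ⤳ x → Weak y → IsUnit (X.presheaf.germ V y hy f)) :
    X.presheaf.germ V x hx f ∈ (X.presheaf.stalk x)⁰ := by
  refine mem_nonZeroDivisors_iff_right.2 fun z hz => ?_
  by_contra hne
  obtain ⟨W, hxW, r, rfl⟩ := X.presheaf.exists_germ_eq (x := x) z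
  let O := V ⊓ W
  have hxO : x ∈ O := ⟨hx, hxW⟩
  let p : Γ(X, O) := X.presheaf.map (homOfLE (inf_le_right : O ≤ W)).op r *
    X.presheaf.map (homOfLE (inf_le_left : O ≤ V)).op f
  obtain ⟨P, hxP, i, i', e⟩ := X.presheaf.germ_eq x hxO hxO p 0 (by
    rw [map_mul, germ_res, germ_res, hz, map_zero])
  obtain ⟨y, hyP, hyx, hw, hne'⟩ := exists_weak hxP (X.presheaf.map (homOfLE (i.le.trans inf_le_right)).op r)
    (by rw [germ_res]; exact hne)
  have h0 : X.presheaf.germ P y hyP (X.presheaf.map i.op p) = 0 := by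
    rw [show X.presheaf.map i.op p = 0 from e.trans (map_zero _)]
    exact map_zero _
  rw [show X.presheaf.germ P y hyP (X.presheaf.map i.op p) = X.presheaf.germ O y (i.le hyP) p from
    TopCat.Presheaf.germ_res_apply X.presheaf i y hyP p, map_mul, germ_res, germ_res] at h0
  rw [germ_res] at hne'
  exact hne' ((h y _ hyx hw).mul_left_eq_zero.1 h0)

theorem Weak.isUnit_germ {V : X.Opens} {f : Γ(X, V)} (hf : f ∈ Mero.regSub X V) {y : X} (hy : y ∈ V)
    (h : Weak y) : IsUnit (X.presheaf.germ V y hy f) := h.isUnit (hf ⟨y, hy⟩)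

theorem mem_regSub_of_weak {V : X.Opens} (f : Γ(X, V))
    (h : ∀ (y : X) (hy : y ∈ V), Weak y → IsUnit (X.presheaf.germ V y hy f)) : f ∈ Mero.regSub X V :=
  fun x => mem_nzd_of_weak f x.2 fun y hy _ hw => h y hy hw

/-- On an affine open the germwise nonzerodivisors are the nonzerodivisors. -/
theorem regSub_eq {U : X.Opens} (hU : IsAffineOpen U) : Mero.regSub X U = nonZeroDivisors Γ(X, U) := by
  refine le_antisymm (fun f hf => ?_) fun f hf x => ?_
  · refine mem_nonZeroDivisors_iff_right.2 fun g hg => sec_ext g 0 fun x hx => ?_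
    rw [map_zero]
    refine (mem_nonZeroDivisors_iff_right.1 (hf ⟨x, hx⟩)) _ ?_
    rw [← map_mul, hg, map_zero]
  · letI := X.presheaf.algebra_section_stalk x
    haveI : IsLocalization.AtPrime (X.presheaf.stalk x.1) (hU.primeIdealOf x).asIdeal := hU.isLocalization_stalk x
    exact IsLocalization.map_nonZeroDivisors_le (hU.primeIdealOf x).asIdeal.primeCompl (X.presheaf.stalk x.1)
      ⟨f, hf, rfl⟩

/-- An open containing the weakly associated points detects functions. -/
theorem eq_of_weak {U : X.Opens} (a b : Γ(X, U))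
    (h : ∀ (y : X) (hy : y ∈ U), Weak y → X.presheaf.germ U y hy a = X.presheaf.germ U y hy b) : a = b := by
  refine sec_ext a b fun x hx => ?_
  by_contra hne
  obtain ⟨y, hy, -, hw, hne'⟩ := exists_weak hx (a - b) (by rw [map_sub, sub_ne_zero]; exact hne)
  exact hne' (by rw [map_sub, sub_eq_zero]; exact h y hy hw)

theorem weak_iff_ass {x : X} :
    Weak x ↔ IsAssociatedPrime (IsLocalRing.maximalIdeal (X.presheaf.stalk x)) (X.presheaf.stalk x) := by
  obtain ⟨e⟩ := RefHullLib.nonempty_stalk_unit X x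
  constructor
  · rintro ⟨m, hm⟩
    refine ⟨(IsLocalRing.maximalIdeal.isMaximal _).isPrime, e.symm m, hm.symm.trans (congrArg Ideal.radical ?_)⟩
    ext r
    rw [LinearMap.mem_ker, Submodule.mem_colon_singleton, Submodule.mem_bot, LinearMap.toSpanSingleton_apply,
      ← map_smul, e.symm.map_eq_zero_iff]
  · rintro ⟨-, v, hv⟩
    refine ⟨e v, Eq.trans (congrArg Ideal.radical ?_) hv.symm⟩
    ext r
    rw [LinearMap.mem_ker, Submodule.mem_colon_singleton, Submodule.mem_bot, LinearMap.toSpanSingleton_apply,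
      ← map_smul, e.map_eq_zero_iff]

/-- A nonzerodivisor at a point with no proper generisation is a unit. -/
theorem isUnit_of_maximal {y : X} (hmax : ∀ z : X, z ⤳ y → z = y) (g : X.presheaf.stalk y)
    (hg : g ∈ (X.presheaf.stalk y)⁰) : IsUnit g := by
  have h0 : ringKrullDim (X.presheaf.stalk y) = 0 := by
    rw [ringKrullDim_stalk_eq_coheight]
    refine WithBot.coe_eq_zero.2 (Order.coheight_eq_zero.2 fun z hz => ?_)
    exact (hmax z (Scheme.le_iff_specializes.1 hz)) ▸ le_rfl
  haveI : Ring.KrullDimLE 0 (X.presheaf.stalk y) := Ring.krullDimLE_iff.2 h0.le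
  by_contra hu
  obtain ⟨n, hn⟩ := Ring.KrullDimLE.isNilpotent_iff_mem_maximalIdeal.2 ((IsLocalRing.mem_maximalIdeal _).2 hu)
  exact zero_notMem_nonZeroDivisors (hn ▸ pow_mem hg n)

theorem eq_of_specializes_of_dim_zero {x : X} (h : ringKrullDim (X.presheaf.stalk x) = 0) {z : X} (hz : z ⤳ x) :
    z = x := by
  rw [ringKrullDim_stalk_eq_coheight] at h
  have h1 : IsMax x := Order.coheight_eq_zero.1 (WithBot.coe_eq_zero.1 h)
  exact (hz.antisymm (Scheme.le_iff_specializes.1 (h1 (Scheme.le_iff_specializes.2 hz)))).eq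

/-- On a reduced scheme weakly associated points have no proper generisation. -/
theorem Weak.eq_of_specializes [IsReduced X] {x : X} (h : Weak x) {z : X} (hz : z ⤳ x) : z = x := by
  obtain ⟨-, v, hv⟩ := weak_iff_ass.1 h
  have hne := (IsLocalRing.maximalIdeal.isMaximal (X.presheaf.stalk x)).ne_top
  have hvu : IsUnit v := by
    by_contra hu
    obtain ⟨n, hn⟩ := (hv ▸ (IsLocalRing.mem_maximalIdeal _).2 hu :
      v ∈ Ideal.radical ((⊥ : Submodule (X.presheaf.stalk x) (X.presheaf.stalk x)).colon {v}))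
    rw [Submodule.mem_colon_singleton, Submodule.mem_bot, smul_eq_mul, ← pow_succ] at hn
    have h0 : v = 0 := eq_zero_of_pow_eq_zero hn
    refine hne ?_
    rw [hv, h0, Ideal.eq_top_iff_one]
    exact Ideal.le_radical (by simp)
  have hm : IsLocalRing.maximalIdeal (X.presheaf.stalk x) = ⊥ := by
    refine eq_bot_iff.2 fun r hr => ?_
    obtain ⟨n, hn⟩ := (hv ▸ hr : r ∈ Ideal.radical ((⊥ : Submodule (X.presheaf.stalk x) (X.presheaf.stalk x)).colon {v}))
    rw [Submodule.mem_colon_singleton, Submodule.mem_bot, smul_eq_mul, hvu.mul_left_eq_zero] at hn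
    exact eq_zero_of_pow_eq_zero hn
  exact eq_of_specializes_of_dim_zero
    (ringKrullDim_eq_zero_of_isField (IsLocalRing.isField_iff_maximalIdeal_eq.2 hm)) hz

end MeroLib

end
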