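import Groth.Prelude.Def_MeroSh
import Mathlib.AlgebraicGeometry.AffineScheme

/-!
# Sections of the sheaf of meromorphic functions
-/

set_option autoImplicit false
universe u

open CategoryTheory AlgebraicGeometry TopologicalSpace Opposite

noncomputable section

namespace MeroLib

variable {X : Scheme.{u}}

/-- The fraction `a / s` at a point. -/
abbrev frac {x : X} (a : X.presheaf.stalk x) (s : Mero.regStalk X x) : Mero.KStalk X x :=
  IsLocalization.mk' _ a s

theorem mk_eq_frac {x : X} (a : X.presheaf.stalk x) (s : Mero.regStalk X x) :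
    (LocalizedModule.mk a s : Mero.KStalk X x) = frac a s := by
  rw [frac, ← Localization.mk_eq_mk']
  rfl

theorem mk_one_eq {x : X} (a : X.presheaf.stalk x) :
    (LocalizedModule.mk a 1 : Mero.KStalk X x) = algebraMap _ (Mero.KStalk X x) a := by
  rw [mk_eq_frac, frac, IsLocalization.mk'_one]

theorem frac_mul_den {x : X} (a : X.presheaf.stalk x) (s : Mero.regStalk X x) :
    frac a s * algebraMap _ (Mero.KStalk X x) (s : X.presheaf.stalk x) =
      algebraMap _ (Mero.KStalk X x) a := IsLocalization.mk'_spec _ a s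

theorem frac_eq_zero_iff {x : X} (a : X.presheaf.stalk x) (s : Mero.regStalk X x) : frac a s = 0 ↔ a = 0 := by
  rw [← (IsLocalization.map_units (Mero.KStalk X x) s).mul_left_eq_zero, frac_mul_den,
    map_eq_zero_iff _ (Mero.algebraMap_KStalk_injective x)]

/-- The value of a section at a point. -/
abbrev val {U : X.Opens} (s : Γ(Mero.kmod X, U)) (x : X) (hx : x ∈ U) : Mero.KStalk X x :=
  Mero.evalK X U ⟨x, hx⟩ s

theorem ext {U : X.Opens} {s t : Γ(Mero.kmod X, U)} (h : ∀ x hx, val s x hx = val t x hx) : s = t :=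
  Subtype.ext (funext fun x => h x.1 x.2)

theorem val_res {U V : X.Opens} (h : V ≤ U) (s : Γ(Mero.kmod X, U)) (x : X) (hx : x ∈ V) :
    val ((Mero.kmod X).presheaf.map (homOfLE h).op s) x hx = val s x (h hx) := rfl

theorem val_toK {U : X.Opens} (r : Γ(X, U)) (x : X) (hx : x ∈ U) :
    val (Mero.toK X U r) x hx = algebraMap _ (Mero.KStalk X x) (X.presheaf.germ U x hx r) :=
  mk_one_eq _

theorem val_smul {U : X.Opens} (r : Γ(X, U)) (s : Γ(Mero.kmod X, U)) (x : X) (hx : x ∈ U) :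
    val (r • s) x hx = algebraMap _ (Mero.KStalk X x) (X.presheaf.germ U x hx r) * val s x hx :=
  Algebra.smul_def (X.presheaf.germ U x hx r) (val s x hx)

theorem smul_eq_toK_mul {U : X.Opens} (r : Γ(X, U)) (s : Γ(Mero.kmod X, U)) :
    r • s = Mero.toK X U r * s :=
  ext fun x hx => by rw [val_smul, ← val_toK, val, val, val, map_mul]

theorem germ_res {U V : X.Opens} (h : V ≤ U) (r : Γ(X, U)) (x : X) (hx : x ∈ V) :
    X.presheaf.germ V x hx (X.presheaf.map (homOfLE h).op r) = X.presheaf.germ U x (h hx) r :=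
  TopCat.Presheaf.germ_res_apply X.presheaf (homOfLE h) x hx r

theorem sec_ext {U : X.Opens} (a b : Γ(X, U))
    (h : ∀ x hx, X.presheaf.germ U x hx a = X.presheaf.germ U x hx b) : a = b :=
  TopCat.Presheaf.section_ext X.sheaf U a b h

theorem exists_nhd_eq {U V : X.Opens} {x : X} (hxU : x ∈ U) (hxV : x ∈ V) (a : Γ(X, U)) (b : Γ(X, V))
    (h : X.presheaf.germ U x hxU a = X.presheaf.germ V x hxV b) :
    ∃ (W : X.Opens) (hU : W ≤ U) (hV : W ≤ V), x ∈ W ∧
      ∀ y (hy : y ∈ W), X.presheaf.germ U y (hU hy) a = X.presheaf.germ V y (hV hy) b := by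
  obtain ⟨W, hxW, i, i', e⟩ := X.presheaf.germ_eq x hxU hxV a b h
  refine ⟨W, i.le, i'.le, hxW, fun y hy => ?_⟩
  rw [← germ_res i.le a y hy, ← germ_res i'.le b y hy]
  exact congrArg _ e

/-- Near every point a section is one fraction. -/
theorem exists_frac {U : X.Opens} (s : Γ(Mero.kmod X, U)) {x : X} (hx : x ∈ U) :
    ∃ (W : X.Opens) (hW : W ≤ U) (a : Γ(X, W)) (b : Mero.regSub X W), x ∈ W ∧
      ∀ y (hy : y ∈ W), val s y (hW hy) = frac (X.presheaf.germ W y hy a) (Mero.regGerm ⟨y, hy⟩ b) := by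
  obtain ⟨W, hxW, i, a, b, h⟩ := s.2 ⟨x, hx⟩
  exact ⟨W, i.le, a, b, hxW, fun y hy => (h ⟨y, hy⟩).trans (mk_eq_frac _ _)⟩

/-- The section `a / b`. -/
def fracSec {U : X.Opens} (a : Γ(X, U)) (b : Mero.regSub X U) : Γ(Mero.kmod X, U) :=
  ⟨fun x => LocalizedModule.mk (X.presheaf.germ U x.1 x.2 a) (Mero.regGerm x b),
    fun x => ⟨U, x.2, 𝟙 _, a, b, fun _ => rfl⟩⟩

theorem val_fracSec {U : X.Opens} (a : Γ(X, U)) (b : Mero.regSub X U) (x : X) (hx : x ∈ U) :
    val (fracSec a b) x hx = frac (X.presheaf.germ U x hx a) (Mero.regGerm ⟨x, hx⟩ b) :=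
  mk_eq_frac _ _

theorem fracSec_mul {U : X.Opens} (a : Γ(X, U)) (b : Mero.regSub X U) :
    fracSec a b * Mero.toK X U b = Mero.toK X U a :=
  ext fun x hx => by
    rw [val, map_mul]
    change val (fracSec a b) x hx * val (Mero.toK X U b) x hx = val (Mero.toK X U a) x hx
    rw [val_fracSec, val_toK, val_toK]
    exact frac_mul_den _ _

theorem isUnit_toK {U : X.Opens} (b : Mero.regSub X U) : IsUnit (Mero.toK X U b) :=
  IsUnit.of_mul_eq_one _ (((mul_comm _ _).trans (fracSec_mul 1 b)).trans (map_one _))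

theorem toK_injective (U : X.Opens) : Function.Injective (Mero.toK X U) := fun a b h =>
  sec_ext a b fun x hx => Mero.algebraMap_KStalk_injective x (by rw [← val_toK, ← val_toK, h])

theorem toK_res {U V : X.Opens} (h : V ≤ U) (r : Γ(X, U)) :
    (Mero.kmod X).presheaf.map (homOfLE h).op (Mero.toK X U r) =
      Mero.toK X V (X.presheaf.map (homOfLE h).op r) :=
  ext fun x hx => by rw [val_res, val_toK, val_toK, germ_res]

theorem res_mul {U V : X.Opens} (h : V ≤ U) (s t : Γ(Mero.kmod X, U)) :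
    (Mero.kmod X).presheaf.map (homOfLE h).op (s * t) =
      (Mero.kmod X).presheaf.map (homOfLE h).op s * (Mero.kmod X).presheaf.map (homOfLE h).op t := rfl

/-- The points at which a section lies in the local ring form an open set. -/
theorem exists_nhd_range {U : X.Opens} (s : Γ(Mero.kmod X, U)) {x : X} (hx : x ∈ U)
    (h : val s x hx ∈ (algebraMap (X.presheaf.stalk x) (Mero.KStalk X x)).range) :
    ∃ (O : X.Opens) (hO : O ≤ U) (r : Γ(X, O)), x ∈ O ∧
      ∀ y (hy : y ∈ O), val s y (hO hy) = algebraMap _ (Mero.KStalk X y) (X.presheaf.germ O y hy r) := by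
  obtain ⟨W, hW, a, b, hxW, hab⟩ := exists_frac s hx
  obtain ⟨c, hc⟩ := h
  obtain ⟨V, hxV, c', rfl⟩ := X.presheaf.exists_germ_eq (x := x) c
  let W' := W ⊓ V
  have hx' : x ∈ W' := ⟨hxW, hxV⟩
  let c'' : Γ(X, W') := X.presheaf.map (homOfLE (inf_le_right : W' ≤ V)).op c'
  let b' : Γ(X, W') := X.presheaf.map (homOfLE (inf_le_left : W' ≤ W)).op b
  have he : X.presheaf.germ W' x hx' (c'' * b') = X.presheaf.germ W x hxW a := by
    refine Mero.algebraMap_KStalk_injective x ?_
    rw [map_mul, map_mul, germ_res, germ_res]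
    erw [hc]
    rw [hab x hxW]
    exact frac_mul_den _ _
  obtain ⟨O, hO', hO, hxO, hO2⟩ := exists_nhd_eq hx' hxW _ a he
  refine ⟨O, hO.trans hW, X.presheaf.map (homOfLE hO').op c'', hxO, fun y hy => ?_⟩
  rw [hab y (hO hy), frac, IsLocalization.mk'_eq_iff_eq_mul, germ_res, ← hO2 y hy, map_mul, map_mul]
  congr 2
  exact germ_res inf_le_left _ y _

/-- A section with values in the local rings is a function. -/
theorem exists_eq_toK {U : X.Opens} (s : Γ(Mero.kmod X, U))
    (h : ∀ x hx, val s x hx ∈ (algebraMap (X.presheaf.stalk x) (Mero.KStalk X x)).range) :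
    ∃ r : Γ(X, U), Mero.toK X U r = s := by
  have key : ∀ x : U, ∃ (W : X.Opens) (hW : W ≤ U) (r : Γ(X, W)), x.1 ∈ W ∧
      ∀ y (hy : y ∈ W), val s y (hW hy) = algebraMap _ (Mero.KStalk X y) (X.presheaf.germ W y hy r) := by
    exact fun x => exists_nhd_range s x.2 (h x.1 x.2)
  choose W hWU r hxW hr using key
  have hcov : U ≤ ⨆ x : U, W x := fun x hx => Opens.mem_iSup.2 ⟨⟨x, hx⟩, hxW ⟨x, hx⟩⟩
  obtain ⟨g, hg, -⟩ := TopCat.Sheaf.existsUnique_gluing' X.sheaf W U (fun x => homOfLE (hWU x)) hcov r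
    (fun x y => sec_ext _ _ fun z hz => Mero.algebraMap_KStalk_injective z (by
      erw [TopCat.Presheaf.germ_res_apply, TopCat.Presheaf.germ_res_apply]
      exact (hr x z hz.1).symm.trans (hr y z hz.2)))
  refine ⟨g, ext fun x hx => ?_⟩
  rw [val_toK, hr ⟨x, hx⟩ x (hxW ⟨x, hx⟩), ← hg ⟨x, hx⟩]
  exact congrArg _ (germ_res (hWU ⟨x, hx⟩) g x _).symm


end MeroLib

end
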