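import Groth.Agent.MeroLib.MerMod

/-!
# The ideal of denominators
-/

set_option autoImplicit false
universe u

open CategoryTheory AlgebraicGeometry TopologicalSpace Opposite
open AmpleLib (GenAt GenOn res)
open ModGlueLib (rs exists_glue)

noncomputable section

namespace MeroLib

variable {X : Scheme.{u}} {L : X.Modules}

theorem germ_eq_of_gen1 (hL : PicF.IsInvertible L) {U V : X.Opens} (m : Γ(L, U)) (m' : Γ(L, V)) {x : X}
    (hx : x ∈ U) (hx' : x ∈ V) (h : gen1 m x hx = gen1 m' x hx') :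
    L.presheaf.germ U x hx m = L.presheaf.germ V x hx' m' := by
  obtain ⟨W, g, hxW, hg⟩ := TwistLib.exists_genOn hL x
  obtain ⟨c, hc⟩ := (hg.genAt hxW).2 (L.presheaf.germ U x hx m)
  obtain ⟨c', hc'⟩ := (hg.genAt hxW).2 (L.presheaf.germ V x hx' m')
  simp only at hc hc'
  rw [gen1, gen1, ← hc, ← hc', ← mul_one (1 : Mero.regStalk X x), ← frac_smul_mk, ← frac_smul_mk] at h
  have h1 := smul_gen1_cancel (hg.genAt hxW) h
  simp only [mul_one, frac, IsLocalization.mk'_one] at h1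
  rw [← hc, ← hc', Mero.algebraMap_KStalk_injective x h1]

theorem denom_iff {s : Γ(Mero.merMod L, ⊤)} {U : X.Opens} {f : Γ(X, U)} :
    f ∈ Mero.denomIdeal L s U ↔ ∃ m : Γ(L, U), ∀ x (hx : x ∈ U),
      algebraMap _ (Mero.KStalk X x) (X.presheaf.germ U x hx f) • mval s x (Opens.mem_top x) = gen1 m x hx :=
  exists_congr fun m =>
    ⟨fun h x hx => (IsScalarTower.algebraMap_smul _ _ _).trans (h ⟨x, hx⟩),
      fun h x => (IsScalarTower.algebraMap_smul (Mero.KStalk X x.1) _ _).symm.trans (h x.1 x.2)⟩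

theorem denom_of_local (hL : PicF.IsInvertible L) {s : Γ(Mero.merMod L, ⊤)} {U : X.Opens} (f : Γ(X, U))
    (h : ∀ x : U, ∃ (W : X.Opens) (hW : W ≤ U) (m : Γ(L, W)), x.1 ∈ W ∧ ∀ y (hy : y ∈ W),
      algebraMap _ (Mero.KStalk X y) (X.presheaf.germ U y (hW hy) f) • mval s y (Opens.mem_top y) = gen1 m y hy) :
    f ∈ Mero.denomIdeal L s U := by
  choose W hW m hxW hm using h
  obtain ⟨M, hM⟩ := exists_glue (M := L) (V := U) W hW (fun x hx => ⟨⟨x, hx⟩, hxW ⟨x, hx⟩⟩) m fun a b => by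
    refine TopCat.Presheaf.section_ext (⟨L.presheaf, L.isSheaf⟩ : TopCat.Sheaf AddCommGrpCat _) _ _ _ fun y hy => ?_
    refine (AmpleLib.germ_res L (inf_le_left : W a ⊓ W b ≤ W a) (m a) hy).trans ?_
    exact (germ_eq_of_gen1 hL (m a) (m b) hy.1 hy.2 ((hm a y hy.1).symm.trans (hm b y hy.2))).trans
      (AmpleLib.germ_res L (inf_le_right : W a ⊓ W b ≤ W b) (m b) hy).symm
  refine denom_iff.2 ⟨M, fun x hx => (hm ⟨x, hx⟩ x (hxW _)).trans ?_⟩
  rw [← hM ⟨x, hx⟩]
  exact gen1_res _ M x _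

theorem map_denom_le (s : Γ(Mero.merMod L, ⊤)) {U V : X.Opens} (h : V ≤ U) {f : Γ(X, U)}
    (hf : f ∈ Mero.denomIdeal L s U) : X.presheaf.map (homOfLE h).op f ∈ Mero.denomIdeal L s V := by
  obtain ⟨m, hm⟩ := denom_iff.1 hf
  exact denom_iff.2 ⟨res L h m, fun x hx => by rw [germ_res, gen1_res]; exact hm x (h hx)⟩

/-- Around every point, an affine chart `s = (a / b) g`. -/
theorem exists_chart (hL : PicF.IsInvertible L) (s : Γ(Mero.merMod L, ⊤)) {U : X.Opens} {x : X} (hx : x ∈ U) :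
    ∃ (W : X.Opens) (_ : W ≤ U) (g : Γ(L, W)) (a : Γ(X, W)) (b : Mero.regSub X W), x ∈ W ∧ IsAffineOpen W ∧
      GenOn L g ∧ ∀ y (hy : y ∈ W), mval s y (Opens.mem_top y) =
        frac (X.presheaf.germ W y hy a) (Mero.regGerm ⟨y, hy⟩ b) • gen1 g y hy := by
  obtain ⟨T, g, hxT, hg⟩ := TwistLib.exists_genOn hL x
  obtain ⟨u, hu⟩ := exists_coeff hg ((Mero.merMod L).presheaf.map (homOfLE (le_top : T ≤ ⊤)).op s)
  obtain ⟨O, hO, a, b, hxO, hab⟩ := exists_frac u hxT
  obtain ⟨W, hW, hxW, hWO⟩ := exists_isAffineOpen_mem_and_subset (x := x) (U := U ⊓ O) ⟨hx, hxO⟩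
  have hWO' : W ≤ O := fun y hy => (hWO hy).2
  refine ⟨W, fun y hy => (hWO hy).1, res L (hWO'.trans hO) g, X.presheaf.map (homOfLE hWO').op a,
    ⟨_, Mero.regSub_res (homOfLE hWO') b.2⟩, hxW, hW, hg.res _, fun y hy => ?_⟩
  rw [gen1_res]
  refine (hu y (hO (hWO' hy))).trans ?_
  rw [hab y (hWO' hy)]
  congr 2
  · exact (germ_res hWO' a y hy).symm
  · exact Subtype.ext (germ_res hWO' b.1 y hy).symm

theorem denom_basicOpen (hL : PicF.IsInvertible L) (s : Γ(Mero.merMod L, ⊤)) {U : X.Opens} (hU : IsAffineOpen U)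
    (f : Γ(X, U)) (c : Γ(X, X.basicOpen f)) (hc : c ∈ Mero.denomIdeal L s (X.basicOpen f)) :
    c ∈ (Mero.denomIdeal L s U).map (X.presheaf.map (homOfLE (X.basicOpen_le f)).op).hom := by
  haveI := hU.isLocalization_basicOpen f
  obtain ⟨⟨c₀, ⟨_, i, rfl⟩⟩, hci⟩ := IsLocalization.surj (Submonoid.powers f) c
  change c * X.presheaf.map (homOfLE (X.basicOpen_le f)).op (f ^ i) =
    X.presheaf.map (homOfLE (X.basicOpen_le f)).op c₀ at hci
  obtain ⟨m, hm⟩ := denom_iff.1 hc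
  have key : ∀ x : U, ∃ (W : X.Opens) (hW : W ≤ U) (k : ℕ), x.1 ∈ W ∧ ∀ n, k ≤ n → ∃ m' : Γ(L, W), ∀ y (hy : y ∈ W),
      algebraMap _ (Mero.KStalk X y) (X.presheaf.germ U y (hW hy) (f ^ n * c₀)) • mval s y (Opens.mem_top y) =
        gen1 m' y hy := by
    intro x
    obtain ⟨W, hW, g, a, b, hxW, hWaff, hg, hs⟩ := exists_chart hL s x.2
    let f' : Γ(X, W) := X.presheaf.map (homOfLE hW).op f
    let W' := X.basicOpen f'
    have hW'W : W' ≤ W := X.basicOpen_le f'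
    have hW'f : W' ≤ X.basicOpen f := fun y hy => by
      rw [X.mem_basicOpen f y (hW (hW'W hy)), ← germ_res hW f y (hW'W hy)]
      exact (X.mem_basicOpen f' y (hW'W hy)).1 hy
    obtain ⟨d, hd⟩ := (hg W' hW'W).2 (res L hW'f m)
    dsimp only at hd
    haveI := hWaff.isLocalization_basicOpen f'
    obtain ⟨⟨d₀, ⟨_, j, rfl⟩⟩, hdj⟩ := IsLocalization.surj (Submonoid.powers f') d
    change d * X.presheaf.map (homOfLE hW'W).op (f' ^ j) = X.presheaf.map (homOfLE hW'W).op d₀ at hdj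
    let p : Γ(X, W) := f' ^ j * X.presheaf.map (homOfLE hW).op c₀ * a
    let q : Γ(X, W) := f' ^ i * b.1 * d₀
    have hpq : algebraMap Γ(X, W) Γ(X, W') p = algebraMap Γ(X, W) Γ(X, W') q := sec_ext _ _ fun y hy => by
      change X.presheaf.germ W' y hy (X.presheaf.map (homOfLE hW'W).op p) =
        X.presheaf.germ W' y hy (X.presheaf.map (homOfLE hW'W).op q)
      rw [germ_res, germ_res]
      have h1 := hm y (hW'f hy)
      rw [← gen1_res hW'f m y hy, ← hd, gen1_smul, gen1_res, hs y (hW'W hy), smul_smul] at h1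
      have h2 := smul_gen1_cancel (hg.genAt _) h1
      rw [IsLocalization.mul_mk'_eq_mk'_of_mul, IsLocalization.mk'_eq_iff_eq_mul, ← map_mul,
        (Mero.algebraMap_KStalk_injective y).eq_iff] at h2
      have h3 := congrArg (X.presheaf.germ (X.basicOpen f) y (hW'f hy)) hci
      have h4 := congrArg (X.presheaf.germ W' y hy) hdj
      simp only [p, q, f', map_mul, map_pow, germ_res] at h3 h4 ⊢
      rw [← h3, ← h4]
      linear_combination (X.presheaf.germ U y (hW (hW'W hy)) f ^ j * X.presheaf.germ U y (hW (hW'W hy)) f ^ i) * h2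
    obtain ⟨⟨_, k, rfl⟩, hk⟩ := IsLocalization.exists_of_eq (M := Submonoid.powers f') hpq
    refine ⟨W, hW, k + j, hxW, fun n hn => ?_⟩
    obtain ⟨e, rfl⟩ := Nat.exists_eq_add_of_le hn
    refine ⟨(f' ^ (e + k + i) * d₀) • g, fun y hy => ?_⟩
    have h5 := congrArg (X.presheaf.germ W y hy) hk
    rw [hs y hy, smul_smul, IsLocalization.mul_mk'_eq_mk'_of_mul, gen1_smul]
    congr 1
    rw [IsLocalization.mk'_eq_iff_eq_mul, ← map_mul]
    congr 1
    simp only [p, q, f', map_mul, map_pow, germ_res] at h5 ⊢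
    linear_combination (X.presheaf.germ U y (hW hy) f ^ e) * h5
  choose W hW k hxW hk using key
  obtain ⟨t, ht⟩ := hU.isCompact.elim_finite_subcover (fun x : U => (W x : Set X)) (fun x => (W x).isOpen)
    (fun x hx => Set.mem_iUnion.2 ⟨⟨x, hx⟩, hxW ⟨x, hx⟩⟩)
  have hN : f ^ t.sup k * c₀ ∈ Mero.denomIdeal L s U := denom_of_local hL _ fun x => by
    obtain ⟨z, hzt, hxz⟩ := Set.mem_iUnion₂.1 (ht x.2)
    obtain ⟨m', hm'⟩ := hk z (t.sup k) (Finset.le_sup hzt)
    exact ⟨W z, hW z, m', hxz, hm'⟩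
  have hu : IsUnit (X.presheaf.map (homOfLE (X.basicOpen_le f)).op (f ^ (t.sup k + i))) :=
    IsLocalization.map_units Γ(X, X.basicOpen f) (⟨f ^ (t.sup k + i), _, rfl⟩ : Submonoid.powers f)
  rw [← Ideal.mul_unit_mem_iff_mem _ hu]
  convert Ideal.mem_map_of_mem (X.presheaf.map (homOfLE (X.basicOpen_le f)).op).hom hN using 1
  rw [map_pow] at hci ⊢
  rw [map_mul, map_pow, ← hci, pow_add]
  ring

/-- The ideals of denominators form a quasi-coherent ideal sheaf. -/
def denomSheaf (hL : PicF.IsInvertible L) (s : Γ(Mero.merMod L, ⊤)) : X.IdealSheafData where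
  ideal U := Mero.denomIdeal L s U.1
  map_ideal_basicOpen U f := le_antisymm
    (Ideal.map_le_iff_le_comap.2 fun _ hc => map_denom_le s (X.basicOpen_le f) hc)
    (fun c hc => denom_basicOpen hL s U.2 f c hc)

theorem notMem_support (hL : PicF.IsInvertible L) (s : Γ(Mero.merMod L, ⊤)) {x : X} (hw : ∀ (W : X.Opens)
    (b : Mero.regSub X W) (hx : x ∈ W), IsUnit (X.presheaf.germ W x hx b.1)) : x ∉ (denomSheaf hL s).support := by
  obtain ⟨W, -, g, a, b, hxW, -, hg, hs⟩ := exists_chart hL s (U := ⊤) (x := x) trivial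
  obtain ⟨U, hU, hxU, hUb⟩ := exists_isAffineOpen_mem_and_subset (x := x) (U := X.basicOpen b.1)
    ((X.mem_basicOpen _ x hxW).2 (hw W b hxW))
  intro hsup
  rw [Scheme.IdealSheafData.mem_support_iff_of_mem (U := ⟨U, hU⟩) hxU, Scheme.mem_zeroLocus_iff] at hsup
  have hUW : U ≤ W := fun y hy => X.basicOpen_le _ (hUb hy)
  have h1 : (1 : Γ(X, U)) ∈ Mero.denomIdeal L s U := by
    obtain ⟨v, hv⟩ : IsUnit (X.presheaf.map (homOfLE (X.basicOpen_le b.1)).op b.1) :=
      RingedSpace.isUnit_res_basicOpen X.toRingedSpace b.1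
    have hUb' : U ≤ X.basicOpen b.1 := hUb
    refine denom_iff.2 ⟨(X.presheaf.map (homOfLE hUW).op a * X.presheaf.map (homOfLE hUb').op (↑v⁻¹ : Γ(X, X.basicOpen b.1))) •
      res L hUW g, fun y hy => ?_⟩
    rw [map_one, map_one, one_smul, hs y (hUW hy), gen1_smul, gen1_res]
    congr 1
    rw [IsLocalization.mk'_eq_iff_eq_mul, ← map_mul]
    congr 1
    rw [map_mul, germ_res, germ_res]
    have h2 : X.presheaf.germ (X.basicOpen b.1) y (hUb hy) (v : Γ(X, X.basicOpen b.1)) =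
        X.presheaf.germ W y (hUW hy) b.1 := by
      refine Eq.trans ?_ (germ_res (X.basicOpen_le b.1) b.1 y (hUb hy))
      exact congrArg _ hv
    show _ = _ * X.presheaf.germ W y (hUW hy) b.1
    rw [mul_assoc, ← h2, ← map_mul, Units.inv_mul, map_one, mul_one]
  exact hsup 1 h1 (by rw [Scheme.basicOpen_one]; exact hxU)

end MeroLib

end
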