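import Groth.Agent.MeroLib.Divisor
import Groth.Agent.MeroLib.Weak
import Groth.Agent.DepthTwoLib.Basic
import Groth.Agent.ZClosLib.Depth

/-!
# Divisors and depth
-/

set_option autoImplicit false
universe u

open CategoryTheory AlgebraicGeometry TopologicalSpace Opposite
open scoped nonZeroDivisors

noncomputable section

namespace MeroLib

/-- In depth at least two, divisibility may be tested on a power of the maximal ideal. -/
theorem dvd_of_pow {R : Type u} [CommRing R] [IsLocalRing R] [IsNoetherianRing R]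
    (hd : (2 : ℕ∞) ≤ LocCoh.depth R R) {b : R} (hb : b ∈ R⁰) :
    ∀ (n : ℕ) (a : R), (∀ j ∈ IsLocalRing.maximalIdeal R ^ n, b ∣ j * a) → b ∣ a
  | 0, a, h => one_mul a ▸ h 1 (by simp)
  | n + 1, a, h => by
    refine dvd_of_pow hd hb n a fun z hz => ?_
    have hz' : ∀ j : IsLocalRing.maximalIdeal R, b ∣ (j : R) * (z * a) := fun j => by
      rw [← mul_assoc]
      exact h _ (by rw [pow_succ']; exact Ideal.mul_mem_mul j.2 hz)
    choose c hc using hz'
    have hinj : ∀ u v : R, b * u = b * v → u = v := fun u v e => sub_eq_zero.1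
      ((mem_nonZeroDivisors_iff.1 hb).1 _ (by rw [mul_sub, e, sub_self]))
    let φ : IsLocalRing.maximalIdeal R →ₗ[R] R :=
      { toFun := c
        map_add' := fun i j => hinj _ _ (by rw [← hc, mul_add, ← hc, ← hc, Submodule.coe_add, add_mul])
        map_smul' := fun r j => hinj _ _ (by
          rw [← hc, RingHom.id_apply, smul_eq_mul, Submodule.coe_smul, smul_eq_mul, mul_assoc, hc, mul_left_comm]) }
    have hd2 := DepthTwoLib.two_le_iff.1 hd
    obtain ⟨m, hm⟩ := hd2.2 φ
    refine ⟨m, sub_eq_zero.1 (hd2.1 _ fun j hj => ?_)⟩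
    rw [smul_eq_mul, mul_sub, hc ⟨j, hj⟩, mul_left_comm j b m]
    exact sub_eq_zero.2 (congrArg (b * ·) (hm ⟨j, hj⟩))

variable {X : Scheme.{u}} [IsLocallyNoetherian X]

/-- In depth at least two, divisibility may be tested at the proper generisations. -/
theorem dvd_of_generisation {W : X.Opens} {x : X} (hx : x ∈ W)
    (hd : (2 : ℕ∞) ≤ LocCoh.depth (X.presheaf.stalk x) (X.presheaf.stalk x))
    (a b : Γ(X, W)) (hb : X.presheaf.germ W x hx b ∈ (X.presheaf.stalk x)⁰)
    (h : ∀ y (hy : y ∈ W), y ⤳ x → y ≠ x → X.presheaf.germ W y hy b ∣ X.presheaf.germ W y hy a) :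
    X.presheaf.germ W x hx b ∣ X.presheaf.germ W x hx a := by
  obtain ⟨U, hU, hxU, hUW⟩ := exists_isAffineOpen_mem_and_subset (x := x) (U := W) hx
  let a₀ : Γ(X, U) := X.presheaf.map (homOfLE hUW).op a
  let b₀ : Γ(X, U) := X.presheaf.map (homOfLE hUW).op b
  let R := X.presheaf.stalk x
  let α := X.presheaf.germ W x hx a
  let β := X.presheaf.germ W x hx b
  let I : Ideal R :=
    { carrier := {r | β ∣ r * α}
      zero_mem' := by simp
      add_mem' := fun {r s} hr hs => by show β ∣ (r + s) * α; rw [add_mul]; exact dvd_add hr hs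
      smul_mem' := fun c r hr => by show β ∣ c • r * α; rw [smul_eq_mul, mul_assoc]; exact hr.mul_left c }
  have hI : IsLocalRing.maximalIdeal R ≤ I.radical := by
    rw [Ideal.radical_eq_sInf]
    refine le_sInf fun P ⟨hPI, hP⟩ => ?_
    by_contra hne
    haveI := hP
    letI := X.presheaf.algebra_section_stalk (⟨x, hxU⟩ : U)
    haveI : IsLocalization.AtPrime R (hU.primeIdealOf ⟨x, hxU⟩).asIdeal := hU.isLocalization_stalk ⟨x, hxU⟩
    let q : PrimeSpectrum Γ(X, U) := ⟨P.comap (algebraMap Γ(X, U) R), Ideal.comap_isPrime _ P⟩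
    have hyU : hU.fromSpec q ∈ U := by
      have h1 : hU.fromSpec q ∈ Set.range hU.fromSpec := ⟨q, rfl⟩
      rwa [hU.range_fromSpec] at h1
    have hpr : hU.primeIdealOf ⟨hU.fromSpec q, hyU⟩ = q :=
      hU.fromSpec.isOpenEmbedding.injective (hU.fromSpec_primeIdealOf ⟨_, hyU⟩)
    have hle : q.asIdeal ≤ (hU.primeIdealOf ⟨x, hxU⟩).asIdeal := fun t ht => by
      by_contra htp
      exact hP.ne_top (Ideal.eq_top_of_isUnit_mem _ ht (AssPointLib.isUnit_germ hU hxU htp))
    have hyx : hU.fromSpec q ⤳ x := by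
      have h1 := ((PrimeSpectrum.le_iff_specializes q (hU.primeIdealOf ⟨x, hxU⟩)).1 hle).map hU.fromSpec.continuous
      rwa [hU.fromSpec_primeIdealOf] at h1
    have hyne : hU.fromSpec q ≠ x := fun e => hne (fun r hr => by
      obtain ⟨c, t, rfl⟩ := IsLocalization.exists_mk'_eq (hU.primeIdealOf ⟨x, hxU⟩).asIdeal.primeCompl r
      have hcp : c ∈ q.asIdeal := by
        have hq : q = hU.primeIdealOf ⟨x, hxU⟩ := hU.fromSpec.isOpenEmbedding.injective
          (e.trans (hU.fromSpec_primeIdealOf ⟨x, hxU⟩).symm)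
        rw [hq]
        exact (IsLocalization.AtPrime.mk'_mem_maximal_iff R (hU.primeIdealOf ⟨x, hxU⟩).asIdeal c t).1 hr
      rw [IsLocalization.mk'_eq_mul_mk'_one]
      exact Ideal.mul_mem_right _ _ hcp)
    letI := X.presheaf.algebra_section_stalk (⟨hU.fromSpec q, hyU⟩ : U)
    haveI : IsLocalization.AtPrime (X.presheaf.stalk (hU.fromSpec q)) q.asIdeal := by
      have h1 := hU.isLocalization_stalk ⟨hU.fromSpec q, hyU⟩
      rwa [hpr] at h1
    obtain ⟨c, hc⟩ := h _ (hUW hyU) hyx hyne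
    obtain ⟨c', t, rfl⟩ := IsLocalization.exists_mk'_eq q.asIdeal.primeCompl c
    have h2 : algebraMap Γ(X, U) (X.presheaf.stalk (hU.fromSpec q)) ((t : Γ(X, U)) * a₀) =
        algebraMap Γ(X, U) (X.presheaf.stalk (hU.fromSpec q)) (b₀ * c') := by
      rw [map_mul, map_mul]
      change _ * X.presheaf.germ U _ hyU a₀ = X.presheaf.germ U _ hyU b₀ * _
      erw [germ_res, germ_res]
      rw [hc, ← IsLocalization.mk'_spec (X.presheaf.stalk (hU.fromSpec q)) c' t]
      ring
    obtain ⟨t', ht'⟩ := (IsLocalization.eq_iff_exists q.asIdeal.primeCompl _).1 h2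
    have h3 : algebraMap Γ(X, U) R ((t' : Γ(X, U)) * t) ∈ I := by
      refine ⟨algebraMap Γ(X, U) R ((t' : Γ(X, U)) * c'), ?_⟩
      show algebraMap Γ(X, U) R ((t' : Γ(X, U)) * t) * X.presheaf.germ W x hx a = X.presheaf.germ W x hx b * _
      rw [← germ_res hUW a x hxU, ← germ_res hUW b x hxU]
      change algebraMap Γ(X, U) R _ * algebraMap Γ(X, U) R a₀ = algebraMap Γ(X, U) R b₀ * _
      rw [← map_mul, ← map_mul, mul_assoc, ht', mul_left_comm]
    exact (Submonoid.mul_mem _ t'.2 t.2 : (t' : Γ(X, U)) * t ∈ q.asIdeal.primeCompl) (hPI h3)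
  obtain ⟨n, hn⟩ := Ideal.exists_pow_le_of_le_radical_of_fg hI (IsNoetherian.noetherian _)
  exact dvd_of_pow hd hb n _ fun j hj => hn hj

/-- A closed condition has a most general point above any of its points. -/
theorem exists_maximal {S : Set X} {x : X} (hx : x ∈ S) :
    ∃ y, y ⤳ x ∧ y ∈ S ∧ ∀ z ∈ S, z ⤳ y → z = y := by
  obtain ⟨n, ⟨y, ⟨hyx, hy⟩, rfl⟩, hmin⟩ := (wellFounded_lt (α := ℕ∞)).has_min
    (Order.coheight '' {y : X | y ⤳ x ∧ y ∈ S}) ⟨_, x, ⟨specializes_rfl, hx⟩, rfl⟩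
  refine ⟨y, hyx, hy, fun z hz hzy => ?_⟩
  by_contra hne
  have hlt : y < z := lt_iff_le_not_ge.2 ⟨Scheme.le_iff_specializes.2 hzy,
    fun h => hne (hzy.antisymm (Scheme.le_iff_specializes.1 h)).eq⟩
  have hfin : Order.coheight z < ⊤ := by
    have h1 : ringKrullDim (X.presheaf.stalk z) < ⊤ := ringKrullDim_lt_top
    rw [ringKrullDim_stalk_eq_coheight] at h1
    exact WithBot.coe_lt_coe.1 h1
  exact hmin _ ⟨z, ⟨hzy.trans hyx, hz⟩, rfl⟩ (Order.coheight_strictAnti hlt hfin)

theorem weak_of_depth_eq_zero {x : X} (h : LocCoh.depth (X.presheaf.stalk x) (X.presheaf.stalk x) = 0) : Weak x := by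
  refine weak_iff_ass.2 (by_contra fun hn => ?_)
  have := ZClosLib.depth_ge_one_iff.2 hn
  rw [h] at this
  exact absurd this (by norm_num)

/-- Divisors are trivial in depth zero. -/
theorem eq_one_of_depth_zero {x : X} (h : LocCoh.depth (X.presheaf.stalk x) (X.presheaf.stalk x) = 0)
    (D : Mero.Divisor X) : D.1 x = 1 :=
  eq_one_of_units (fun a => (weak_of_depth_eq_zero h).isUnit (Mero.regStalk_le_nonZeroDivisors x a.2)) D

theorem isEffectiveAt_of_eq_one {D : Mero.Divisor X} {x : X} (h : D.1 x = 1) : Mero.IsEffectiveAt D x := by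
  obtain ⟨W, a, b, hxW, hab⟩ := exists_rep D x
  exact (isEffectiveAt_iff (hab x hxW)).2 ((mk_fracUnit_eq_one_iff _ _).1 ((hab x hxW).symm.trans h)).dvd

theorem depth_cases (x : X) :
    LocCoh.depth (X.presheaf.stalk x) (X.presheaf.stalk x) = 0 ∨
      LocCoh.depth (X.presheaf.stalk x) (X.presheaf.stalk x) = 1 ∨
      (2 : ℕ∞) ≤ LocCoh.depth (X.presheaf.stalk x) (X.presheaf.stalk x) := by
  rcases lt_or_ge (LocCoh.depth (X.presheaf.stalk x) (X.presheaf.stalk x)) 2 with h | h
  · generalize LocCoh.depth (X.presheaf.stalk x) (X.presheaf.stalk x) = d at h ⊢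
    cases d with
    | top => exact absurd h (by simp)
    | coe n =>
      have hn : n < 2 := by exact_mod_cast h
      interval_cases n <;> simp
  · exact Or.inr (Or.inr h)

/-- Effectivity may be tested in depth one. -/
theorem isEffective_of_depth_one (D : Mero.Divisor X)
    (h : ∀ x : X, LocCoh.depth (X.presheaf.stalk x) (X.presheaf.stalk x) = 1 → Mero.IsEffectiveAt D x) :
    Mero.IsEffective D := by
  intro x₀
  by_contra hx₀
  obtain ⟨x, -, hx, hmax⟩ := exists_maximal (S := {x | ¬ Mero.IsEffectiveAt D x}) hx₀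
  rcases depth_cases x with h0 | h1 | h2
  · exact hx (isEffectiveAt_of_eq_one (eq_one_of_depth_zero h0 D))
  · exact hx (h x h1)
  · obtain ⟨W, a, b, hxW, hab⟩ := exists_rep D x
    exact hx ((isEffectiveAt_iff (hab x hxW)).2 (dvd_of_generisation hxW h2 a.1 b.1 (b.2 ⟨x, hxW⟩)
      fun y hy hyx hne => (isEffectiveAt_iff (hab y hy)).1 (by_contra fun hye => hne (hmax y hye hyx))))

/-- At the general points of the support the depth is one. -/
theorem depth_eq_one_of_maximal (D : Mero.Divisor X) {x : X} (hx : D.1 x ≠ 1)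
    (hmax : ∀ z : X, D.1 z ≠ 1 → z ⤳ x → z = x) :
    LocCoh.depth (X.presheaf.stalk x) (X.presheaf.stalk x) = 1 := by
  rcases depth_cases x with h0 | h1 | h2
  · exact absurd (eq_one_of_depth_zero h0 D) hx
  · exact h1
  · obtain ⟨W, a, b, hxW, hab⟩ := exists_rep D x
    have ha : ∀ y (hy : y ∈ W), y ⤳ x → y ≠ x →
        Associated (X.presheaf.germ W y hy b.1) (X.presheaf.germ W y hy a.1) := fun y hy hyx hne =>
      (mk_fracUnit_eq_one_iff _ _).1 ((hab y hy).symm.trans (by_contra fun hye => hne (hmax y hye hyx)))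
    obtain ⟨c, hc⟩ := dvd_of_generisation hxW h2 a.1 b.1 (b.2 ⟨x, hxW⟩) fun y hy h1 h3 => (ha y hy h1 h3).dvd
    obtain ⟨d, hd⟩ := dvd_of_generisation hxW h2 b.1 a.1 (a.2 ⟨x, hxW⟩) fun y hy h1 h3 => (ha y hy h1 h3).symm.dvd
    refine absurd ((hab x hxW).trans ((mk_fracUnit_eq_one_iff _ _).2 ?_)) hx
    have hcd : c * d = 1 := by
      refine sub_eq_zero.1 ((mem_nonZeroDivisors_iff.1 (b.2 ⟨x, hxW⟩)).1 _ ?_)
      change X.presheaf.germ W x hxW b.1 * (c * d - 1) = 0
      rw [mul_sub, mul_one, ← mul_assoc, ← hc, ← hd, sub_self]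
    exact ⟨Units.mkOfMulEqOne c d hcd, hc.symm⟩

end MeroLib

end
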