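import Groth.Agent.MeroLib.Divisor
import Groth.Agent.AmpleLib.Gen
import Groth.Agent.TwistLib.Basic

/-!
# The module of a divisor
-/

set_option autoImplicit false
universe u

open CategoryTheory AlgebraicGeometry TopologicalSpace Opposite
open AmpleLib (GenOn res)

noncomputable section

namespace MeroLib

variable {X : Scheme.{u}}

theorem val_mul_inv {U : X.Opens} (f : (Γ(Mero.kmod X, U))ˣ) (x : X) (hx : x ∈ U) :
    val (f : Γ(Mero.kmod X, U)) x hx * val ((f⁻¹ : (Γ(Mero.kmod X, U))ˣ) : Γ(Mero.kmod X, U)) x hx = 1 :=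
  ((map_mul _ _ _).symm.trans (congrArg _ f.mul_inv)).trans (map_one _)

/-- The condition may be read on one representative. -/
theorem divCond_iff {D : Mero.Divisor X} {x : X} {g : (Mero.KStalk X x)ˣ} (hg : D.1 x = QuotientGroup.mk g)
    (t : Mero.KStalk X x) :
    Mero.DivCond D x t ↔ t * g ∈ (algebraMap (X.presheaf.stalk x) (Mero.KStalk X x)).range := by
  refine ⟨fun h => h g hg, fun ⟨r, hr⟩ g' hg' => ?_⟩
  obtain ⟨c, hc⟩ := (mk_eq_one_iff (g⁻¹ * g')).1 (by
    rw [QuotientGroup.mk_mul, QuotientGroup.mk_inv, ← hg, ← hg', inv_mul_cancel])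
  refine ⟨r * c, ?_⟩
  rw [map_mul, hr, hc, mul_assoc, ← Units.val_mul, mul_inv_cancel_left]

variable {D : Mero.Divisor X}

/-- A meromorphic function satisfying the condition, as a section of the module. -/
def mkDiv {U : X.Opens} (s : Γ(Mero.kmod X, U)) (h : ∀ x hx, Mero.DivCond D x (val s x hx)) :
    Γ(Mero.divMod D, U) := ⟨s.1, ⟨s.2, fun x => h x.1 x.2⟩⟩

/-- The value of a section of the module. -/
abbrev dval {U : X.Opens} (t : Γ(Mero.divMod D, U)) (x : X) (hx : x ∈ U) : Mero.KStalk X x := t.1 ⟨x, hx⟩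

/-- The underlying meromorphic function. -/
def toKmod {U : X.Opens} (t : Γ(Mero.divMod D, U)) : Γ(Mero.kmod X, U) := ⟨t.1, t.2.1⟩

theorem dval_toKmod {U : X.Opens} (t : Γ(Mero.divMod D, U)) (x : X) (hx : x ∈ U) :
    val (toKmod t) x hx = dval t x hx := rfl

theorem dext {U : X.Opens} {s t : Γ(Mero.divMod D, U)} (h : ∀ x hx, dval s x hx = dval t x hx) : s = t :=
  Subtype.ext (funext fun x => h x.1 x.2)

theorem dval_res {U V : X.Opens} (h : V ≤ U) (t : Γ(Mero.divMod D, U)) (x : X) (hx : x ∈ V) :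
    dval (res (Mero.divMod D) h t) x hx = dval t x (h hx) := rfl

theorem dval_smul {U : X.Opens} (r : Γ(X, U)) (t : Γ(Mero.divMod D, U)) (x : X) (hx : x ∈ U) :
    dval (r • t) x hx = algebraMap _ (Mero.KStalk X x) (X.presheaf.germ U x hx r) * dval t x hx :=
  Algebra.smul_def (X.presheaf.germ U x hx r) (dval t x hx)

theorem dcond {U : X.Opens} (t : Γ(Mero.divMod D, U)) (x : X) (hx : x ∈ U) : Mero.DivCond D x (dval t x hx) :=
  t.2.2 ⟨x, hx⟩

/-- The generator `f⁻¹` of the module where the divisor is the class of `f`. -/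
def gen {U : X.Opens} (f : (Γ(Mero.kmod X, U))ˣ) (hf : ∀ y : U, D.1 y.1 = Mero.germOf f y) : Γ(Mero.divMod D, U) :=
  mkDiv ((f⁻¹ : (Γ(Mero.kmod X, U))ˣ) : Γ(Mero.kmod X, U)) fun x hx => (divCond_iff (hf ⟨x, hx⟩) _).2 ⟨1, by
    rw [map_one]
    exact (map_one (Mero.evalK X U ⟨x, hx⟩)).symm.trans ((congrArg _ f.inv_mul.symm).trans (map_mul _ _ _))⟩

theorem dval_gen {U : X.Opens} (f : (Γ(Mero.kmod X, U))ˣ) (hf : ∀ y : U, D.1 y.1 = Mero.germOf f y) (x : X)
    (hx : x ∈ U) : dval (gen f hf) x hx = val ((f⁻¹ : (Γ(Mero.kmod X, U))ˣ) : Γ(Mero.kmod X, U)) x hx := rfl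

theorem genOn_gen {U : X.Opens} (f : (Γ(Mero.kmod X, U))ˣ) (hf : ∀ y : U, D.1 y.1 = Mero.germOf f y) :
    GenOn (Mero.divMod D) (gen f hf) := by
  intro V hV
  have hval : ∀ (r : Γ(X, V)) (x : X) (hx : x ∈ V), dval (r • res (Mero.divMod D) hV (gen f hf)) x hx =
      val (Mero.toK X V r) x hx * val ((f⁻¹ : (Γ(Mero.kmod X, U))ˣ) : Γ(Mero.kmod X, U)) x (hV hx) :=
    fun r x hx => by rw [dval_smul, val_toK, dval_res, dval_gen]
  refine ⟨fun r r' h => toK_injective V (ext fun x hx => ?_), fun t => ?_⟩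
  · have h1 := congrArg (fun t => dval t x hx) h
    simp only [hval] at h1
    exact ((f⁻¹).isUnit.map (Mero.evalK X U ⟨x, hV hx⟩)).mul_left_injective h1
  · let fV : Γ(Mero.kmod X, V) := (Mero.kmod X).presheaf.map (homOfLE hV).op (f : Γ(Mero.kmod X, U))
    obtain ⟨r, hr⟩ := exists_eq_toK (toKmod t * fV) fun x hx => by
      rw [val, map_mul]
      exact (divCond_iff (hf ⟨x, hV hx⟩) _).1 (dcond t x hx)
    refine ⟨r, dext fun x hx => (hval r x hx).trans ?_⟩
    rw [hr, val, map_mul]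
    change dval t x hx * val (f : Γ(Mero.kmod X, U)) x (hV hx) * _ = _
    rw [mul_assoc]
    refine (congrArg _ ((map_mul (Mero.evalK X U ⟨x, hV hx⟩) _ _).symm.trans ?_)).trans (mul_one _)
    rw [Units.mul_inv, map_one]

theorem isInvertible_divMod (D : Mero.Divisor X) : PicF.IsInvertible (Mero.divMod D) := by
  choose U hx f hf using fun x : X => D.2 x
  exact TwistLib.isInvertible_of_genOn U (fun x => ⟨x, hx x⟩) _ fun x => genOn_gen (f x) (hf x)

/-- Multiplication by a global meromorphic function between modules of divisors. -/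
def mulHom (D D' : Mero.Divisor X) (u : Γ(Mero.kmod X, ⊤))
    (h : ∀ (x : X) (t : Mero.KStalk X x), Mero.DivCond D x t → Mero.DivCond D' x (t * val u x (Opens.mem_top x))) :
    Mero.divMod D ⟶ Mero.divMod D' :=
  ⟨PresheafOfModules.homMk (M₁ := (Mero.divMod D).val) (M₂ := (Mero.divMod D').val)
    { app := fun U => AddCommGrpCat.ofHom
        { toFun := fun (t : Γ(Mero.divMod D, U.unop)) => (mkDiv (toKmod t * (Mero.kmod X).presheaf.map
            (homOfLE (le_top : U.unop ≤ ⊤)).op u) fun x hx => h x _ (dcond t x hx) : Γ(Mero.divMod D', U.unop))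
          map_zero' := Subtype.ext (funext fun _ => zero_mul _)
          map_add' := fun _ _ => Subtype.ext (funext fun _ => add_mul _ _ _) }
      naturality := by intros; rfl }
    (fun _ _ _ => Subtype.ext (funext fun _ => smul_mul_assoc _ _ _))⟩

theorem dval_mulHom (D D' : Mero.Divisor X) (u : Γ(Mero.kmod X, ⊤))
    (h : ∀ (x : X) (t : Mero.KStalk X x), Mero.DivCond D x t → Mero.DivCond D' x (t * val u x (Opens.mem_top x)))
    {U : X.Opens} (t : Γ(Mero.divMod D, U)) (x : X) (hx : x ∈ U) :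
    dval ((mulHom D D' u h).app U t) x hx = dval t x hx * val u x (Opens.mem_top x) := rfl

theorem hom_ext' {M : X.Modules} {D : Mero.Divisor X} {a b : M ⟶ Mero.divMod D}
    (h : ∀ (U : X.Opens) (t : Γ(M, U)) (x : X) (hx : x ∈ U), dval (a.app U t) x hx = dval (b.app U t) x hx) :
    a = b := Scheme.Modules.hom_ext a b fun U => ConcreteCategory.hom_ext _ _ fun t => dext fun x hx => h U t x hx

/-- Linearly equivalent divisors have isomorphic modules. -/
theorem nonempty_iso_of_linEquiv (D D' : Mero.Divisor X) (h : Mero.LinEquiv D D') :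
    Nonempty (Mero.divMod D ≅ Mero.divMod D') := by
  obtain ⟨f, hf⟩ := h
  have hx : ∀ x : X, D.1 x = QuotientGroup.mk (Units.map (Mero.evalK X ⊤ ⟨x, Opens.mem_top x⟩).toMonoidHom f) * D'.1 x := fun x => by
    have h1 := congrArg (fun E : Mero.Divisor X => E.1 x) hf
    exact (mul_inv_eq_iff_eq_mul.1 h1)
  have h₁ : ∀ (x : X) (t : Mero.KStalk X x), Mero.DivCond D x t →
      Mero.DivCond D' x (t * val (f : Γ(Mero.kmod X, ⊤)) x (Opens.mem_top x)) := fun x t ht g hg => by
    rw [mul_assoc]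
    exact ht (Units.map (Mero.evalK X ⊤ ⟨x, Opens.mem_top x⟩).toMonoidHom f * g) (by
      rw [hx x, hg, ← QuotientGroup.mk_mul])
  have h₂ : ∀ (x : X) (t : Mero.KStalk X x), Mero.DivCond D' x t →
      Mero.DivCond D x (t * val ((f⁻¹ : (Γ(Mero.kmod X, ⊤))ˣ) : Γ(Mero.kmod X, ⊤)) x (Opens.mem_top x)) := fun x t ht g hg => by
    rw [mul_assoc]
    exact ht ((Units.map (Mero.evalK X ⊤ ⟨x, Opens.mem_top x⟩).toMonoidHom f)⁻¹ * g) (by
      rw [QuotientGroup.mk_mul, QuotientGroup.mk_inv, ← hg, hx x, inv_mul_cancel_left])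
  refine ⟨⟨mulHom D D' _ h₁, mulHom D' D _ h₂, hom_ext' fun U t x hx => ?_, hom_ext' fun U t x hx => ?_⟩⟩
  · change dval t x hx * _ * _ = dval t x hx
    rw [mul_assoc]
    refine (congrArg _ ((map_mul (Mero.evalK X ⊤ ⟨x, Opens.mem_top x⟩) _ _).symm.trans ?_)).trans (mul_one _)
    rw [Units.mul_inv, map_one]
  · change dval t x hx * _ * _ = dval t x hx
    rw [mul_assoc]
    refine (congrArg _ ((map_mul (Mero.evalK X ⊤ ⟨x, Opens.mem_top x⟩) _ _).symm.trans ?_)).trans (mul_one _)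
    rw [Units.inv_mul, map_one]

end MeroLib

end
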