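import Groth.Agent.MeroLib.Basic
import Groth.Prelude.Def_MeroDiv

/-!
# Germs of divisors as quotients of regular functions
-/

set_option autoImplicit false
universe u

open CategoryTheory AlgebraicGeometry TopologicalSpace Opposite
open scoped nonZeroDivisors

noncomputable section

namespace MeroLib

variable {X : Scheme.{u}}

/-- A germ of a regular function as a unit. -/
abbrev regUnit {x : X} (a : Mero.regStalk X x) : (Mero.KStalk X x)ˣ :=
  (IsLocalization.map_units (Mero.KStalk X x) a).unit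

/-- The unit `a / b`. -/
def fracUnit {x : X} (a b : Mero.regStalk X x) : (Mero.KStalk X x)ˣ := regUnit a * (regUnit b)⁻¹

theorem fracUnit_val {x : X} (a b : Mero.regStalk X x) :
    (fracUnit a b : Mero.KStalk X x) = frac (a : X.presheaf.stalk x) b := by
  rw [fracUnit, Units.val_mul, frac, eq_comm, IsLocalization.mk'_eq_iff_eq_mul]
  change algebraMap _ (Mero.KStalk X x) (a : X.presheaf.stalk x) =
    algebraMap _ (Mero.KStalk X x) (a : X.presheaf.stalk x) * _ * (regUnit b : Mero.KStalk X x)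
  rw [mul_assoc, Units.inv_mul, mul_one]

theorem mk_eq_one_iff {x : X} (g : (Mero.KStalk X x)ˣ) :
    (QuotientGroup.mk g : Mero.Germ X x) = 1 ↔
      ∃ c : (X.presheaf.stalk x)ˣ, algebraMap _ (Mero.KStalk X x) (c : X.presheaf.stalk x) = g := by
  rw [QuotientGroup.eq_one_iff, Mero.stalkUnits, MonoidHom.mem_range]
  exact exists_congr fun c => ⟨fun h => congrArg Units.val h, fun h => Units.ext h⟩

/-- A unit of `K` near a point is a quotient of two regular functions. -/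
theorem exists_unit_frac {U : X.Opens} (f : (Γ(Mero.kmod X, U))ˣ) {x : X} (hx : x ∈ U) :
    ∃ (W : X.Opens) (hW : W ≤ U) (a b : Mero.regSub X W), x ∈ W ∧
      ∀ y (hy : y ∈ W), Units.map (Mero.evalK X U ⟨y, hW hy⟩).toMonoidHom f =
        fracUnit (Mero.regGerm ⟨y, hy⟩ a) (Mero.regGerm ⟨y, hy⟩ b) := by
  obtain ⟨W₁, h₁, a, b, hx₁, hab⟩ := exists_frac (f : Γ(Mero.kmod X, U)) hx
  obtain ⟨W₂, h₂, c, d, hx₂, hcd⟩ := exists_frac ((f⁻¹ : (Γ(Mero.kmod X, U))ˣ) : Γ(Mero.kmod X, U)) hx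
  let W := W₁ ⊓ W₂
  let a' : Γ(X, W) := X.presheaf.map (homOfLE (inf_le_left : W ≤ W₁)).op a
  let b' : Mero.regSub X W := ⟨_, Mero.regSub_res (homOfLE (inf_le_left : W ≤ W₁)) b.2⟩
  have ha : a' ∈ Mero.regSub X W := fun y => by
    have h0 : val (f : Γ(Mero.kmod X, U)) y.1 (h₁ y.2.1) *
        val ((f⁻¹ : (Γ(Mero.kmod X, U))ˣ) : Γ(Mero.kmod X, U)) y.1 (h₁ y.2.1) = 1 := by
      rw [val, val, ← map_mul, Units.mul_inv, map_one]
    rw [hab y.1 y.2.1, show val ((f⁻¹ : (Γ(Mero.kmod X, U))ˣ) : Γ(Mero.kmod X, U)) y.1 (h₁ y.2.1) = _ from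
      hcd y.1 y.2.2, ← IsLocalization.mk'_mul, IsLocalization.mk'_eq_iff_eq_mul, one_mul] at h0
    have h1 := Mero.algebraMap_KStalk_injective y.1 h0
    have h2 : X.presheaf.germ W y.1 y.2 a' = X.presheaf.germ W₁ y.1 y.2.1 a := germ_res inf_le_left a y.1 y.2
    rw [h2]
    refine (mul_mem_nonZeroDivisors.1 (h1 ▸ Mero.regStalk_le_nonZeroDivisors y.1 (Subtype.coe_prop _) :
      X.presheaf.germ W₁ y.1 y.2.1 a * X.presheaf.germ W₂ y.1 y.2.2 c ∈ (X.presheaf.stalk y.1)⁰)).1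
  refine ⟨W, inf_le_left.trans h₁, ⟨a', ha⟩, b', ⟨hx₁, hx₂⟩, fun y hy => Units.ext ?_⟩
  rw [fracUnit_val]
  refine (hab y hy.1).trans ?_
  rw [frac, frac]
  congr 1
  · exact (germ_res inf_le_left a y hy).symm
  · exact Subtype.ext (germ_res inf_le_left b.1 y hy).symm

/-- Every divisor is locally the class of a quotient of regular functions. -/
theorem exists_rep (D : Mero.Divisor X) (x : X) :
    ∃ (W : X.Opens) (a b : Mero.regSub X W), x ∈ W ∧ ∀ y (hy : y ∈ W),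
      D.1 y = QuotientGroup.mk (fracUnit (Mero.regGerm ⟨y, hy⟩ a) (Mero.regGerm ⟨y, hy⟩ b)) := by
  obtain ⟨U, hx, f, hf⟩ := D.2 x
  obtain ⟨W, hW, a, b, hxW, hab⟩ := exists_unit_frac f hx
  exact ⟨W, a, b, hxW, fun y hy => (hf ⟨y, hW hy⟩).trans (congrArg QuotientGroup.mk (hab y hy))⟩

theorem mk_fracUnit_eq_one_iff {x : X} (a b : Mero.regStalk X x) :
    (QuotientGroup.mk (fracUnit a b) : Mero.Germ X x) = 1 ↔
      Associated (b : X.presheaf.stalk x) (a : X.presheaf.stalk x) := by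
  rw [mk_eq_one_iff]
  refine exists_congr fun c => ?_
  rw [fracUnit_val, frac, eq_comm, IsLocalization.mk'_eq_iff_eq_mul, ← map_mul,
    (Mero.algebraMap_KStalk_injective x).eq_iff, mul_comm, eq_comm]

/-- A germ of `c` dividing a regular function is regular. -/
theorem mem_regStalk_of_mul {x : X} {a b : Mero.regStalk X x} {c : X.presheaf.stalk x}
    (h : (b : X.presheaf.stalk x) * c = a) : c ∈ Mero.regStalk X x := by
  obtain ⟨U, hU, a', ha', ea⟩ := a.2
  obtain ⟨V, hV, b', hb', eb⟩ := b.2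
  obtain ⟨T, hT, c', rfl⟩ := X.presheaf.exists_germ_eq (x := x) c
  let W := U ⊓ V ⊓ T
  have hxW : x ∈ W := ⟨⟨hU, hV⟩, hT⟩
  let c'' : Γ(X, W) := X.presheaf.map (homOfLE (inf_le_right : W ≤ T)).op c'
  let b'' : Γ(X, W) := X.presheaf.map (homOfLE (inf_le_left.trans inf_le_right : W ≤ V)).op b'
  have he : X.presheaf.germ W x hxW (b'' * c'') = X.presheaf.germ U x hU a' := by
    rw [map_mul, germ_res, germ_res, eb, ea, h]
  obtain ⟨O, hOW, hOU, hxO, hO⟩ := exists_nhd_eq hxW hU _ a' he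
  refine ⟨O, hxO, X.presheaf.map (homOfLE hOW).op c'', fun y => ?_, ?_⟩
  · have h1 := ha' ⟨y.1, hOU y.2⟩
    change X.presheaf.germ U y.1 _ a' ∈ _ at h1
    rw [← hO y.1 y.2, map_mul] at h1
    rw [germ_res]
    exact (mul_mem_nonZeroDivisors.1 h1).2
  · rw [germ_res, germ_res]

theorem effective_iff_dvd {x : X} (a b : Mero.regStalk X x) :
    (∃ c : Mero.regStalk X x, (QuotientGroup.mk (fracUnit a b) : Mero.Germ X x) = QuotientGroup.mk (regUnit c)) ↔
      (b : X.presheaf.stalk x) ∣ (a : X.presheaf.stalk x) := by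
  constructor
  · rintro ⟨c, hc⟩
    rw [QuotientGroup.eq, Mero.stalkUnits, MonoidHom.mem_range] at hc
    obtain ⟨e, he⟩ := hc
    have h1 := congrArg Units.val ((eq_inv_mul_iff_mul_eq).1 he)
    rw [Units.val_mul, fracUnit_val] at h1
    have h2 : frac (a : X.presheaf.stalk x) b * algebraMap _ (Mero.KStalk X x) (e : X.presheaf.stalk x) =
        algebraMap _ (Mero.KStalk X x) (c : X.presheaf.stalk x) := h1
    rw [mul_comm, IsLocalization.mul_mk'_eq_mk'_of_mul, IsLocalization.mk'_eq_iff_eq_mul, ← map_mul,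
      (Mero.algebraMap_KStalk_injective x).eq_iff] at h2
    refine ⟨c * ((e⁻¹ : (X.presheaf.stalk x)ˣ) : X.presheaf.stalk x), ?_⟩
    calc (a : X.presheaf.stalk x) = ((e : X.presheaf.stalk x) * a) * ((e⁻¹ : (X.presheaf.stalk x)ˣ) : X.presheaf.stalk x) := by
          rw [mul_comm (e : X.presheaf.stalk x), mul_assoc, Units.mul_inv, mul_one]
      _ = _ := by rw [h2, mul_comm (c : X.presheaf.stalk x), mul_assoc]
  · rintro ⟨c, hc⟩
    refine ⟨⟨c, mem_regStalk_of_mul hc.symm⟩, congrArg _ (Units.ext ?_)⟩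
    rw [fracUnit_val, frac, IsLocalization.mk'_eq_iff_eq_mul]
    exact ((congrArg (algebraMap _ (Mero.KStalk X x)) (hc.trans (mul_comm _ _))).trans (map_mul _ _ _))

theorem isEffectiveAt_iff {D : Mero.Divisor X} {x : X} {a b : Mero.regStalk X x}
    (h : D.1 x = QuotientGroup.mk (fracUnit a b)) :
    Mero.IsEffectiveAt D x ↔ (b : X.presheaf.stalk x) ∣ (a : X.presheaf.stalk x) := by
  rw [← effective_iff_dvd, ← h]
  rfl

theorem isOpen_effective (D : Mero.Divisor X) : IsOpen {x | Mero.IsEffectiveAt D x} := by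
  refine isOpen_iff_forall_mem_open.2 fun x hx => ?_
  obtain ⟨W, a, b, hxW, hab⟩ := exists_rep D x
  obtain ⟨c, hc⟩ := (isEffectiveAt_iff (hab x hxW)).1 hx
  obtain ⟨T, hxT, c', rfl⟩ := X.presheaf.exists_germ_eq (x := x) c
  let W' := W ⊓ T
  let p : Γ(X, W') := X.presheaf.map (homOfLE (inf_le_left : W' ≤ W)).op b.1 *
    X.presheaf.map (homOfLE (inf_le_right : W' ≤ T)).op c'
  obtain ⟨O, hOW, hOU, hxO, hO⟩ := exists_nhd_eq (⟨hxW, hxT⟩ : x ∈ W') hxW p a.1
    (by rw [map_mul, germ_res, germ_res]; exact hc.symm)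
  refine ⟨O, fun y hy => (isEffectiveAt_iff (hab y (hOU hy))).2
    ⟨X.presheaf.germ T y (hOW hy).2 c', ?_⟩, O.2, hxO⟩
  change X.presheaf.germ W y (hOU hy) a.1 = _
  rw [← hO y hy, map_mul, germ_res, germ_res]

theorem isOpen_trivial (D : Mero.Divisor X) : IsOpen {x | D.1 x = 1} := by
  refine isOpen_iff_forall_mem_open.2 fun x hx => ?_
  obtain ⟨W, a, b, hxW, hab⟩ := exists_rep D x
  obtain ⟨c, hc⟩ := (mk_fracUnit_eq_one_iff _ _).1 ((hab x hxW).symm.trans hx)
  obtain ⟨T, hxT, c', hc'⟩ := X.presheaf.exists_germ_eq (x := x) (c : X.presheaf.stalk x)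
  let W' := W ⊓ X.basicOpen c'
  have hxB : x ∈ X.basicOpen c' := (X.mem_basicOpen c' x hxT).2 (hc' ▸ c.isUnit)
  let p : Γ(X, W') := X.presheaf.map (homOfLE (inf_le_left : W' ≤ W)).op b.1 *
    X.presheaf.map (homOfLE (inf_le_right.trans (X.basicOpen_le c') : W' ≤ T)).op c'
  obtain ⟨O, hOW, hOU, hxO, hO⟩ := exists_nhd_eq (⟨hxW, hxB⟩ : x ∈ W') hxW p a.1
    (by rw [map_mul, germ_res, germ_res, hc']; exact hc)
  refine ⟨O, fun y hy => ?_, O.2, hxO⟩
  have hyT : y ∈ T := X.basicOpen_le c' (hOW hy).2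
  refine (hab y (hOU hy)).trans ((mk_fracUnit_eq_one_iff _ _).2
    ⟨((X.mem_basicOpen c' y hyT).1 (hOW hy).2).unit, ?_⟩)
  change _ = X.presheaf.germ W y (hOU hy) a.1
  rw [← hO y hy, map_mul, germ_res, germ_res]
  rfl

/-- Where regular germs are units, every divisor is trivial. -/
theorem eq_one_of_units {x : X} (h : ∀ a : Mero.regStalk X x, IsUnit (a : X.presheaf.stalk x))
    (D : Mero.Divisor X) : D.1 x = 1 := by
  obtain ⟨W, a, b, hxW, hab⟩ := exists_rep D x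
  rw [hab x hxW, mk_fracUnit_eq_one_iff]
  exact ⟨(h (Mero.regGerm ⟨x, hxW⟩ b)).unit⁻¹ * (h (Mero.regGerm ⟨x, hxW⟩ a)).unit, by
    rw [Units.val_mul, ← mul_assoc, IsUnit.mul_val_inv, one_mul]; rfl⟩

end MeroLib

end
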