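import Groth.Agent.MeroLib.Basic

/-!
# Clearing denominators on quasi-compact opens
-/

set_option autoImplicit false
universe u

open CategoryTheory AlgebraicGeometry TopologicalSpace Opposite

noncomputable section

namespace MeroLib

variable {X : Scheme.{u}}

/-- A section vanishing where `h` is invertible is killed by a power of `h`. -/
theorem exists_pow_mul {U : X.Opens} (hc : IsCompact (U : Set X)) (h : Γ(X, U)) (s : Γ(Mero.kmod X, U))
    (hs : ∀ y (hy : y ∈ U), y ∈ X.basicOpen h → val s y hy = 0) :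
    ∃ n : ℕ, Mero.toK X U h ^ n * s = 0 := by
  have key : ∀ x : U, ∃ (W : X.Opens) (n : ℕ), x.1 ∈ W ∧
      ∀ y (hy : y ∈ W) (hyU : y ∈ U), algebraMap _ (Mero.KStalk X y) (X.presheaf.germ U y hyU h) ^ n * val s y hyU = 0 := by
    intro x
    obtain ⟨W, hW, a, b, hxW, hab⟩ := exists_frac s x.2
    obtain ⟨V, hV, hxV, hVW⟩ := exists_isAffineOpen_mem_and_subset (x := x.1) (U := W) hxW
    have hVU : V ≤ U := fun y hy => hW (hVW hy)
    let h' : Γ(X, V) := X.presheaf.map (homOfLE hVU).op h
    let a' : Γ(X, V) := X.presheaf.map (homOfLE hVW).op a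
    haveI := hV.isLocalization_basicOpen h'
    have h0 : algebraMap Γ(X, V) Γ(X, X.basicOpen h') a' = 0 := by
      refine sec_ext _ 0 fun y hy => ?_
      change X.presheaf.germ (X.basicOpen h') y hy (X.presheaf.map (homOfLE (X.basicOpen_le h')).op a') = _
      rw [map_zero, germ_res]
      have hyV : y ∈ V := X.basicOpen_le h' hy
      refine (germ_res hVW a y hyV).trans ?_
      have hyh : y ∈ X.basicOpen h := by
        rw [Scheme.mem_basicOpen _ h y (hVU hyV), ← germ_res hVU h y hyV]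
        exact (Scheme.mem_basicOpen _ h' y hyV).1 hy
      exact (frac_eq_zero_iff _ _).1 ((hab y (hVW hyV)).symm.trans (hs y _ hyh))
    obtain ⟨⟨_, n, rfl⟩, hn⟩ := (IsLocalization.map_eq_zero_iff (Submonoid.powers h') _ a').1 h0
    refine ⟨V, n, hxV, fun y hy hyU => ?_⟩
    rw [hab y (hVW hy), ← map_pow, IsLocalization.mul_mk'_eq_mk'_of_mul]
    refine (frac_eq_zero_iff _ _).2 ?_
    have h1 := congrArg (X.presheaf.germ V y hy) hn
    rw [map_mul, map_zero, map_pow] at h1
    simp only [a', h', germ_res] at h1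
    exact (congrArg (_ * ·) (germ_res hVW a y hy).symm).trans h1
  choose W n hxW hn using key
  obtain ⟨t, ht⟩ := hc.elim_finite_subcover (fun x : U => (W x : Set X)) (fun x => (W x).isOpen)
    (fun x hx => Set.mem_iUnion.2 ⟨⟨x, hx⟩, hxW ⟨x, hx⟩⟩)
  refine ⟨t.sup n, ext fun y hy => ?_⟩
  obtain ⟨x, hxt, hyx⟩ := Set.mem_iUnion₂.1 (ht hy)
  obtain ⟨k, hk⟩ := Nat.exists_eq_add_of_le (Finset.le_sup (f := n) hxt)
  rw [hk, val, map_mul, map_pow]
  change val (Mero.toK X U h) y hy ^ (n x + k) * val s y hy = (0 : Mero.KStalk X y)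
  rw [val_toK, pow_add, mul_right_comm, hn x y hyx hy, zero_mul]

end MeroLib

end
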