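import Groth.Agent.MeroLib.Weak
import Groth.Agent.MeroLib.Pow
import Groth.Agent.DevissLib.ClosedImm
import Groth.Agent.ModGlueLib.Basic

/-!
# Schemes with locally finitely many weakly associated points
-/

set_option autoImplicit false
set_option linter.style.haveILetI false
universe u

open CategoryTheory AlgebraicGeometry TopologicalSpace Opposite
open scoped nonZeroDivisors
open ModGlueLib (rs rs_rs exists_glue)

noncomputable section

namespace MeroLib

variable {X : Scheme.{u}}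

variable (X) in
/-- Every affine open has finitely many weakly associated points. -/
def FiniteWeak : Prop := ∀ U : X.Opens, IsAffineOpen U → {y : X | y ∈ U ∧ Weak y}.Finite

theorem finiteWeak_of_locallyNoetherian [IsLocallyNoetherian X] : FiniteWeak X := fun U hU => by
  haveI : Coh.IsQCoh (Coh.structureModule X) := QCohLib.isQCoh_unit
  exact AssPointLib.finite_assPoints (DevissLib.isCoh_structureModule X).2 U hU.isCompact

/-- Finitely many points with no proper generisation in each quasi-compact open, from the components. -/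
theorem finite_maximal_of_components (hb : ∀ U : X.Opens, IsCompact (U : Set X) →
      (irreducibleComponents ↥(U : Scheme.{u})).Finite) (U : X.Opens) (hU : IsAffineOpen U) :
    {y : X | y ∈ U ∧ ∀ z, z ⤳ y → z = y}.Finite := by
  let P := {y : (U : Scheme.{u}) | ∀ z, z ⤳ y → z = y}
  have hP : P.Finite := by
    refine Set.Finite.of_finite_image (f := fun y => closure ({y} : Set (U : Scheme.{u}))) ((hb U hU.isCompact).subset ?_)
      fun a _ b _ e => (specializes_iff_mem_closure.2 ((congrArg (b ∈ ·) e).mpr (subset_closure rfl)) |>.antisymm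
        (specializes_iff_mem_closure.2 ((congrArg (a ∈ ·) e).mp (subset_closure rfl)))).eq
    rintro _ ⟨y, hy, rfl⟩
    refine ⟨isIrreducible_singleton.closure, fun C hC hle => ?_⟩
    obtain ⟨z, hz⟩ := QuasiSober.sober hC.closure isClosed_closure
    have hzy : z ⤳ y := hz.specializes (subset_closure (hle (subset_closure rfl)))
    exact subset_closure.trans ((hz.def.symm.trans (by rw [hy z hzy])).le)
  refine (hP.image U.ι).subset ?_
  rintro y ⟨hyU, hy⟩
  refine ⟨⟨y, hyU⟩, fun z hz => ?_, rfl⟩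
  exact U.ι.isOpenEmbedding.injective (hy _ (hz.map U.ι.continuous))

theorem finite_maximal_of_locallyFinite (hb : ∀ x : X, ∃ W : X.Opens, x ∈ W ∧
      {Z : Set X | Z ∈ irreducibleComponents X ∧ (Z ∩ (W : Set X)).Nonempty}.Finite)
    (U : X.Opens) (hU : IsAffineOpen U) : {y : X | y ∈ U ∧ ∀ z, z ⤳ y → z = y}.Finite := by
  choose W hxW hW using hb
  obtain ⟨t, ht⟩ := hU.isCompact.elim_finite_subcover (fun x : X => (W x : Set X)) (fun x => (W x).isOpen)
    (fun x _ => Set.mem_iUnion.2 ⟨x, hxW x⟩)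
  refine Set.Finite.of_finite_image (f := fun y => closure ({y} : Set X))
    ((t.finite_toSet.biUnion fun x _ => hW x).subset ?_)
    fun a _ b _ e => (specializes_iff_mem_closure.2 ((congrArg (b ∈ ·) e).mpr (subset_closure rfl)) |>.antisymm
      (specializes_iff_mem_closure.2 ((congrArg (a ∈ ·) e).mp (subset_closure rfl)))).eq
  rintro _ ⟨y, ⟨hyU, hy⟩, rfl⟩
  obtain ⟨x, hxt, hyx⟩ := Set.mem_iUnion₂.1 (ht hyU)
  refine Set.mem_biUnion hxt ⟨⟨isIrreducible_singleton.closure, fun C hC hle => ?_⟩, y, subset_closure rfl, hyx⟩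
  obtain ⟨z, hz⟩ := QuasiSober.sober hC.closure isClosed_closure
  have hzy : z ⤳ y := hz.specializes (subset_closure (hle (subset_closure rfl)))
  exact subset_closure.trans ((hz.def.symm.trans (by rw [hy z hzy])).le)

theorem finiteWeak_of_maximal (ha : ∀ x : X, Weak x → ∀ y, y ⤳ x → y = x)
    (h : ∀ U : X.Opens, IsAffineOpen U → {y : X | y ∈ U ∧ ∀ z, z ⤳ y → z = y}.Finite) : FiniteWeak X :=
  fun U hU => (h U hU).subset fun y hy => ⟨hy.1, ha y hy.2⟩

/-- A nonzerodivisor germ stays one at the generisations. -/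
theorem nzd_of_specializes {U : X.Opens} (hU : IsAffineOpen U) {x y : X} (hx : x ∈ U) (hyx : y ⤳ x)
    (c : Γ(X, U)) (hc : X.presheaf.germ U x hx c ∈ (X.presheaf.stalk x)⁰) :
    X.presheaf.germ U y (hyx.mem_open U.2 hx) c ∈ (X.presheaf.stalk y)⁰ := by
  have hy := hyx.mem_open U.2 hx
  letI := X.presheaf.algebra_section_stalk (⟨y, hy⟩ : U)
  haveI : IsLocalization.AtPrime (X.presheaf.stalk y) (hU.primeIdealOf ⟨y, hy⟩).asIdeal := hU.isLocalization_stalk ⟨y, hy⟩
  refine mem_nonZeroDivisors_iff_right.2 fun a ha => ?_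
  obtain ⟨b, w, rfl⟩ := IsLocalization.exists_mk'_eq (hU.primeIdealOf ⟨y, hy⟩).asIdeal.primeCompl a
  change IsLocalization.mk' (X.presheaf.stalk y) b w * algebraMap Γ(X, U) (X.presheaf.stalk y) c = 0 at ha
  rw [mul_comm, IsLocalization.mul_mk'_eq_mk'_of_mul, IsLocalization.mk'_eq_zero_iff] at ha
  obtain ⟨t, ht⟩ := ha
  have h1 : X.presheaf.germ U x hx ((t : Γ(X, U)) * b) = 0 := (mem_nonZeroDivisors_iff_right.1 hc) _ (by
    rw [← map_mul, mul_assoc, mul_comm b c, ht, map_zero])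
  letI := X.presheaf.algebra_section_stalk (⟨x, hx⟩ : U)
  haveI : IsLocalization.AtPrime (X.presheaf.stalk x) (hU.primeIdealOf ⟨x, hx⟩).asIdeal := hU.isLocalization_stalk ⟨x, hx⟩
  obtain ⟨s, hs⟩ := (IsLocalization.map_eq_zero_iff (hU.primeIdealOf ⟨x, hx⟩).asIdeal.primeCompl
    (X.presheaf.stalk x) _).1 h1
  have hle : (hU.primeIdealOf ⟨y, hy⟩).asIdeal ≤ (hU.primeIdealOf ⟨x, hx⟩).asIdeal := by
    refine (PrimeSpectrum.le_iff_specializes _ _).mpr (hU.fromSpec.isOpenEmbedding.isInducing.specializes_iff.1 ?_)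
    rw [hU.fromSpec_primeIdealOf, hU.fromSpec_primeIdealOf]
    exact hyx
  refine (IsLocalization.mk'_eq_zero_iff b w).2 ⟨⟨(s : Γ(X, U)) * t, ?_⟩, ?_⟩
  · exact Submonoid.mul_mem _ (fun h => s.2 (hle h)) t.2
  · show (s : Γ(X, U)) * t * b = 0
    rw [mul_assoc]; exact hs

/-- `S_x` consists of all nonzerodivisors. -/
theorem regStalk_eq (hX : FiniteWeak X) (x : X) : Mero.regStalk X x = nonZeroDivisors (X.presheaf.stalk x) := by
  refine le_antisymm (Mero.regStalk_le_nonZeroDivisors x) fun g hg => ?_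
  obtain ⟨V, hxV, a₀, rfl⟩ := X.presheaf.exists_germ_eq (x := x) g
  obtain ⟨U, hU, hxU, hUV⟩ := exists_isAffineOpen_mem_and_subset (x := x) (U := V) hxV
  let a : Γ(X, U) := X.presheaf.map (homOfLE hUV).op a₀
  have hga : X.presheaf.germ U x hxU a = X.presheaf.germ V x hxV a₀ := germ_res hUV a₀ x hxU
  let P := {y : X | (y ∈ U ∧ Weak y) ∧ ∀ hy : y ∈ U, ¬ IsUnit (X.presheaf.germ U y hy a)}
  let C : Set X := ⋃ y ∈ P, closure {y}
  have hC : IsClosed C := ((hX U hU).subset fun y hy => hy.1).isClosed_biUnion fun y _ => isClosed_closure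
  have hxC : x ∉ C := fun h => by
    obtain ⟨y, hyP, hyx⟩ := Set.mem_iUnion₂.1 h
    exact hyP.2 hyP.1.1 (hyP.1.2.isUnit
      (nzd_of_specializes hU hxU (specializes_iff_mem_closure.2 hyx) a (hga.symm ▸ hg)))
  let W : X.Opens := U ⊓ ⟨Cᶜ, hC.isOpen_compl⟩
  have hxW : x ∈ W := ⟨hxU, hxC⟩
  refine ⟨W, hxW, X.presheaf.map (homOfLE (inf_le_left : W ≤ U)).op a,
    mem_regSub_of_weak _ fun y hy hw => ?_, ?_⟩
  · rw [germ_res]
    by_contra hu
    exact hy.2 (Set.mem_biUnion ⟨⟨hy.1, hw⟩, fun _ => hu⟩ (subset_closure rfl))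
  · rw [germ_res, hga]

/-- An open containing the weakly associated points of an affine open contains a dense basic open. -/
theorem exists_regSub_basicOpen (hX : FiniteWeak X) {U : X.Opens} (hU : IsAffineOpen U) (V : X.Opens)
    (hV : ∀ y ∈ U, Weak y → y ∈ V) : ∃ t ∈ Mero.regSub X U, X.basicOpen t ≤ V := by
  let Z : Set (PrimeSpectrum Γ(X, U)) := hU.fromSpec ⁻¹' (V : Set X)ᶜ
  have hZ : IsClosed Z := V.isOpen.isClosed_compl.preimage hU.fromSpec.continuous
  let I := PrimeSpectrum.vanishingIdeal Z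
  let P := {y : X | y ∈ U ∧ Weak y}
  haveI : Finite P := (hX U hU).to_subtype
  let q : P → Ideal Γ(X, U) := fun y => (hU.primeIdealOf ⟨y.1, y.2.1⟩).asIdeal
  have hI : ¬ (I : Set Γ(X, U)) ⊆ ⋃ i ∈ (Set.univ : Set P), (q i : Set Γ(X, U)) := by
    intro hsub
    rcases isEmpty_or_nonempty P with hP | ⟨⟨i₀⟩⟩
    · simpa using hsub I.zero_mem
    obtain ⟨i, -, hle⟩ := (Ideal.subset_union_prime_finite Set.finite_univ i₀ i₀
      fun i _ _ _ => (hU.primeIdealOf ⟨i.1, i.2.1⟩).isPrime).1 hsub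
    have h1 : hU.primeIdealOf ⟨i.1, i.2.1⟩ ∈ Z := by
      rw [← hZ.closure_eq, ← PrimeSpectrum.zeroLocus_vanishingIdeal_eq_closure]
      exact hle
    have h2 : hU.fromSpec (hU.primeIdealOf ⟨i.1, i.2.1⟩) ∈ (V : Set X)ᶜ := h1
    rw [hU.fromSpec_primeIdealOf] at h2
    exact h2 (hV i.1 i.2.1 i.2.2)
  obtain ⟨t, htI, ht⟩ := Set.not_subset.1 hI
  refine ⟨t, mem_regSub_of_weak t fun y hy hw => AssPointLib.isUnit_germ hU hy fun h =>
    ht (Set.mem_biUnion (x := (⟨y, hy, hw⟩ : P)) trivial h), fun y hy => ?_⟩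
  by_contra hyV
  have hyU := X.basicOpen_le t hy
  have h1 : hU.primeIdealOf ⟨y, hyU⟩ ∈ Z := by
    show hU.fromSpec (hU.primeIdealOf ⟨y, hyU⟩) ∈ (V : Set X)ᶜ
    rw [hU.fromSpec_primeIdealOf]
    exact hyV
  exact (AssPointLib.mem_basicOpen_iff hU hyU t).1 hy ((PrimeSpectrum.mem_vanishingIdeal _ _).1 htI _ h1)

/-- Meromorphic functions are determined on an open containing the weakly associated points. -/
theorem eq_of_res {U V : X.Opens} (hV : ∀ y ∈ U, Weak y → y ∈ V) (s t : Γ(Mero.kmod X, U))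
    (h : ∀ y (hy : y ∈ U), y ∈ V → val s y hy = val t y hy) : s = t := by
  rw [← sub_eq_zero]
  refine ext fun x hx => ?_
  obtain ⟨W, hW, a, b, hxW, hab⟩ := exists_frac (s - t) hx
  have ha : a = 0 := eq_of_weak a 0 fun y hy hw => by
    rw [map_zero]
    refine (frac_eq_zero_iff _ (Mero.regGerm ⟨y, hy⟩ b)).1 ((hab y hy).symm.trans ?_)
    rw [val, map_sub, sub_eq_zero]
    exact h y (hW hy) (hV y (hW hy) hw)
  rw [hab x hxW, ha, map_zero, frac, IsLocalization.mk'_zero]
  rfl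

theorem val_toK_res {U W : X.Opens} (h : W ≤ U) (r : Γ(X, U)) (y : X) (hy : y ∈ W) :
    val (Mero.toK X W (X.presheaf.map (homOfLE h).op r)) y hy = val (Mero.toK X U r) y (h hy) := by
  rw [val_toK, val_toK, germ_res]

/-- A function on a basic open of a regular element is a meromorphic function. -/
theorem exists_sec_basicOpen {U : X.Opens} (hU : IsAffineOpen U) {t : Γ(X, U)} (ht : t ∈ Mero.regSub X U)
    (r : Γ(X, X.basicOpen t)) :
    ∃ s : Γ(Mero.kmod X, U), ∀ y (hy : y ∈ X.basicOpen t),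
      val s y (X.basicOpen_le t hy) = val (Mero.toK X _ r) y hy := by
  haveI := hU.isLocalization_basicOpen t
  obtain ⟨⟨c, ⟨_, n, rfl⟩⟩, hc⟩ := IsLocalization.surj (Submonoid.powers t) r
  let b : Mero.regSub X U := ⟨t ^ n, pow_mem ht n⟩
  refine ⟨fracSec c b, fun y hy => ?_⟩
  rw [val_fracSec, val_toK, frac, IsLocalization.mk'_eq_iff_eq_mul, ← map_mul]
  congr 1
  have h1 := congrArg (X.presheaf.germ (X.basicOpen t) y hy) hc
  change X.presheaf.germ (X.basicOpen t) y hy (r * X.presheaf.map (homOfLE (X.basicOpen_le t)).op (t ^ n)) =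
    X.presheaf.germ (X.basicOpen t) y hy (X.presheaf.map (homOfLE (X.basicOpen_le t)).op c) at h1
  rw [map_mul, germ_res, germ_res] at h1
  exact h1.symm

/-- Sections of `K` over an affine open form the localisation at the nonzerodivisors. -/
theorem isLocalization (hX : FiniteWeak X) (U : X.affineOpens) :
    @IsLocalization Γ(X, U.1) _ (nonZeroDivisors Γ(X, U.1)) Γ(Mero.kmod X, U.1) _ (Mero.toK X U.1).toAlgebra := by
  letI := (Mero.toK X U.1).toAlgebra
  have hreg : Mero.regSub X U.1 = nonZeroDivisors Γ(X, U.1) := regSub_eq U.2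
  refine { map_units := fun t => isUnit_toK ⟨t.1, by rw [hreg]; exact t.2⟩, surj := fun s => ?_, exists_of_eq := fun {a b} h => ?_ }
  · let D : X.Opens := ⟨{y | ∃ hy : y ∈ U.1, val s y hy ∈ (algebraMap (X.presheaf.stalk y) (Mero.KStalk X y)).range},
      isOpen_iff_forall_mem_open.2 fun y ⟨hy, h⟩ => by
        obtain ⟨O, hO, r, hyO, hr⟩ := exists_nhd_range s hy h
        exact ⟨O, fun z hz => ⟨hO hz, _, (hr z hz).symm⟩, O.2, hyO⟩⟩
    obtain ⟨t, ht, htD⟩ := exists_regSub_basicOpen hX U.2 D fun y hy hw => by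
      obtain ⟨W, hW, c, d, hyW, hcd⟩ := exists_frac s hy
      obtain ⟨e, he⟩ := hw.isUnit_germ d.2 hyW
      refine ⟨hy, (↑e⁻¹ : X.presheaf.stalk y) * X.presheaf.germ W y hyW c, Eq.symm ?_⟩
      refine (hcd y hyW).trans (IsLocalization.mk'_eq_iff_eq_mul.2 ?_)
      rw [← map_mul, mul_right_comm]
      change _ = algebraMap _ _ ((↑e⁻¹ : X.presheaf.stalk y) * X.presheaf.germ W y hyW d.1 * _)
      rw [← he, Units.inv_mul, one_mul]
    obtain ⟨r, hr⟩ := exists_eq_toK ((Mero.kmod X).presheaf.map (homOfLE (X.basicOpen_le t)).op s)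
      fun y hy => (htD hy).2
    haveI := U.2.isLocalization_basicOpen t
    obtain ⟨⟨c, ⟨_, n, rfl⟩⟩, hc⟩ := IsLocalization.surj (Submonoid.powers t) r
    obtain ⟨m, hm⟩ := exists_pow_mul U.2.isCompact t (Mero.toK X U.1 (t ^ n) * s - Mero.toK X U.1 c)
      fun y hy hyt => by
        rw [val, map_sub, map_mul, sub_eq_zero]
        change val _ y hy * val s y hy = val _ y hy
        rw [← val_res (X.basicOpen_le t) s y hyt, ← hr, ← val_toK_res (X.basicOpen_le t) (t ^ n) y hyt,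
          ← val_toK_res (X.basicOpen_le t) c y hyt, mul_comm, val, val, val, ← map_mul, ← map_mul]
        exact congrArg (fun z => val (Mero.toK X _ z) y hyt) hc
    refine ⟨(t ^ m * c, ⟨t ^ m * t ^ n, hreg ▸ mul_mem (pow_mem ht m) (pow_mem ht n)⟩), ?_⟩
    show s * Mero.toK X U.1 (t ^ m * t ^ n) = Mero.toK X U.1 (t ^ m * c)
    rw [mul_sub, sub_eq_zero, ← map_pow, ← mul_assoc, ← map_mul, ← map_mul] at hm
    rw [mul_comm]; exact hm
  · exact ⟨1, congrArg _ (toK_injective _ h)⟩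

/-- An open detecting functions contains the weakly associated points. -/
theorem weak_mem_of_dense (hX : FiniteWeak X) {U V : X.Opens}
    (hV : ∀ W : X.Opens, W ≤ U → Function.Injective (X.presheaf.map (homOfLE (inf_le_left : W ⊓ V ≤ W)).op))
    {y : X} (hy : y ∈ U) (hw : Weak y) : y ∈ V := by
  by_contra hyV
  obtain ⟨U', hU', hyU', hU'U⟩ := exists_isAffineOpen_mem_and_subset (x := y) (U := U) hy
  obtain ⟨-, v, hv⟩ := weak_iff_ass.1 hw
  obtain ⟨T, hyT, v', rfl⟩ := X.presheaf.exists_germ_eq (x := y) v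
  let P := {z : X | (z ∈ U' ∧ Weak z) ∧ ¬ z ⤳ y}
  let C : Set X := ⋃ z ∈ P, closure {z}
  have hC : IsClosed C := ((hX U' hU').subset fun z hz => hz.1).isClosed_biUnion fun z _ => isClosed_closure
  have hyC : y ∉ C := fun h => by
    obtain ⟨z, hzP, hzy⟩ := Set.mem_iUnion₂.1 h
    exact hzP.2 (specializes_iff_mem_closure.2 hzy)
  let W : X.Opens := U' ⊓ ⟨Cᶜ, hC.isOpen_compl⟩ ⊓ T
  have hyW : y ∈ W := ⟨⟨hyU', hyC⟩, hyT⟩
  have hzero : ∀ z (hz : z ∈ W), Weak z → z ≠ y → X.presheaf.germ T z hz.2 v' = 0 := by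
    intro z hz hwz hne
    have hzy : z ⤳ y := by
      by_contra h
      exact hz.1.2 (Set.mem_biUnion (⟨⟨hz.1.1, hwz⟩, h⟩ : z ∈ P) (subset_closure rfl))
    have hqne : ¬ (hU'.primeIdealOf ⟨y, hyU'⟩).asIdeal ≤ (hU'.primeIdealOf ⟨z, hz.1.1⟩).asIdeal := fun h => hne (by
      have h1 := ((PrimeSpectrum.le_iff_specializes _ _).1 h).map hU'.fromSpec.continuous
      rw [hU'.fromSpec_primeIdealOf, hU'.fromSpec_primeIdealOf] at h1
      exact (hzy.antisymm h1).eq)
    obtain ⟨r, hry, hrz⟩ := Set.not_subset.1 hqne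
    have hu := AssPointLib.isUnit_germ hU' hz.1.1 hrz
    obtain ⟨n, hn⟩ : X.presheaf.germ U' y hyU' r ∈ Ideal.radical ((⊥ : Submodule (X.presheaf.stalk y)
        (X.presheaf.stalk y)).colon {X.presheaf.germ T y hyT v'}) := hv ▸ AssPointLib.germ_mem_maximal hU' hyU' hry
    rw [Submodule.mem_colon_singleton, Submodule.mem_bot, smul_eq_mul] at hn
    obtain ⟨O, hOW, hOW', hyO, hO⟩ := exists_nhd_eq hyW hyW
      (X.presheaf.map (homOfLE (inf_le_left.trans inf_le_left : W ≤ U')).op r ^ n *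
        X.presheaf.map (homOfLE (inf_le_right : W ≤ T)).op v') 0
      (by rw [map_mul, map_pow, germ_res, germ_res, hn, map_zero])
    have h1 := hO z (hzy.mem_open O.2 hyO)
    rw [map_mul, map_pow, germ_res, germ_res, map_zero] at h1
    exact (hu.pow n).mul_right_eq_zero.1 h1
  have h0 : X.presheaf.map (homOfLE (inf_le_right : W ≤ T)).op v' = 0 :=
    hV W (inf_le_left.trans (inf_le_left.trans hU'U)) (eq_of_weak _ _ fun z hz hwz => by
      rw [germ_res, germ_res, map_zero, hzero z hz.1 hwz (fun e => hyV (e ▸ hz.2))]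
      exact (map_zero _).symm)
  have h1 := congrArg (X.presheaf.germ W y hyW) h0
  rw [germ_res, map_zero] at h1
  refine (IsLocalRing.maximalIdeal.isMaximal (X.presheaf.stalk y)).ne_top ?_
  rw [hv, h1, Ideal.eq_top_iff_one]
  exact Ideal.le_radical (by simp)

/-- Functions on a dense open extend to meromorphic functions. -/
theorem exists_extension (hX : FiniteWeak X) (U V : X.Opens) (hVU : V ≤ U) (hV : ∀ y ∈ U, Weak y → y ∈ V)
    (g : Γ(X, V)) :
    ∃ s : Γ(Mero.kmod X, U), (Mero.kmod X).presheaf.map (homOfLE hVU).op s = Mero.toK X V g := by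
  have key : ∀ x : U, ∃ (U' : X.Opens) (h : U' ≤ U), x.1 ∈ U' ∧ ∃ s : Γ(Mero.kmod X, U'),
      ∀ y (hy : y ∈ U') (hyV : y ∈ V), val s y hy = val (Mero.toK X V g) y hyV := by
    intro x
    obtain ⟨U', hU', hxU', hU'U⟩ := exists_isAffineOpen_mem_and_subset (x := x.1) (U := U) x.2
    obtain ⟨t, ht, htV⟩ := exists_regSub_basicOpen hX hU' V fun y hy => hV y (hU'U hy)
    obtain ⟨s, hs⟩ := exists_sec_basicOpen hU' ht (X.presheaf.map (homOfLE htV).op g)
    refine ⟨U', hU'U, hxU', s, fun y hy hyV => ?_⟩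
    have he := eq_of_res (U := U' ⊓ V) (V := X.basicOpen t)
      (fun z hz hw => (X.mem_basicOpen t z hz.1).2 (hw.isUnit_germ ht hz.1))
      ((Mero.kmod X).presheaf.map (homOfLE inf_le_left).op s)
      ((Mero.kmod X).presheaf.map (homOfLE inf_le_right).op (Mero.toK X V g))
      (fun z hz hzt => by rw [val_res, val_res, hs z hzt, val_toK_res])
    exact congrArg (fun s => val s y (⟨hy, hyV⟩ : y ∈ U' ⊓ V)) he
  choose U' hU' hxU' s hs using key
  obtain ⟨f, hf⟩ := exists_glue (M := Mero.kmod X) (V := U) U' hU' (fun x hx => ⟨⟨x, hx⟩, hxU' ⟨x, hx⟩⟩) s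
    fun i j => eq_of_res (U := U' i ⊓ U' j) (V := V) (fun z hz => hV z (hU' i hz.1)) _ _ fun z hz hzV => by
      show val ((Mero.kmod X).presheaf.map (homOfLE inf_le_left).op (s i)) z hz =
        val ((Mero.kmod X).presheaf.map (homOfLE inf_le_right).op (s j)) z hz
      rw [val_res, val_res, hs i z hz.1 hzV, hs j z hz.2 hzV]
  refine ⟨f, ext fun y hy => ?_⟩
  rw [val_res, ← hs ⟨y, hVU hy⟩ y (hxU' _) hy, ← hf ⟨y, hVU hy⟩]
  rfl

end MeroLib

end
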