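import Groth.Agent.MeroLib.DivMod
import Groth.Agent.MeroLib.Finite
import Groth.Agent.TwistLib.HomGlue

/-!
# Regular meromorphic sections of invertible modules
-/

set_option autoImplicit false
universe u

open CategoryTheory AlgebraicGeometry TopologicalSpace Opposite
open AmpleLib (GenAt GenOn res)
open scoped nonZeroDivisors

noncomputable section

namespace MeroLib

variable {X : Scheme.{u}} {L : X.Modules}

/-- The value of a meromorphic section at a point. -/
abbrev mval {U : X.Opens} (s : Γ(Mero.merMod L, U)) (x : X) (hx : x ∈ U) : Mero.MStalk L x := s.1 ⟨x, hx⟩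

theorem mext {U : X.Opens} {s t : Γ(Mero.merMod L, U)} (h : ∀ x hx, mval s x hx = mval t x hx) : s = t :=
  Subtype.ext (funext fun x => h x.1 x.2)

theorem mval_res {U V : X.Opens} (h : V ≤ U) (s : Γ(Mero.merMod L, U)) (x : X) (hx : x ∈ V) :
    mval ((Mero.merMod L).presheaf.map (homOfLE h).op s) x hx = mval s x (h hx) := rfl

/-- The image of a germ in `S⁻¹ L_x`. -/
abbrev gen1 {U : X.Opens} (g : Γ(L, U)) (x : X) (hx : x ∈ U) : Mero.MStalk L x :=
  LocalizedModule.mk (L.presheaf.germ U x hx g) 1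

theorem frac_smul_mk {x : X} (a : X.presheaf.stalk x) (s : Mero.regStalk X x) (e : L.presheaf.stalk x) :
    frac a s • (LocalizedModule.mk e 1 : Mero.MStalk L x) = LocalizedModule.mk (a • e) s := by
  rw [← mk_eq_frac]
  exact (LocalizedModule.mk_smul_mk a e s 1).trans (by rw [mul_one])

theorem gen1_res {U V : X.Opens} (h : V ≤ U) (g : Γ(L, U)) (x : X) (hx : x ∈ V) :
    gen1 (res L h g) x hx = gen1 g x (h hx) := by
  rw [gen1, AmpleLib.germ_res]

theorem gen1_smul {U : X.Opens} (r : Γ(X, U)) (g : Γ(L, U)) (x : X) (hx : x ∈ U) :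
    gen1 (r • g) x hx = algebraMap _ (Mero.KStalk X x) (X.presheaf.germ U x hx r) • gen1 g x hx := by
  rw [gen1, AmpleLib.germ_smul, ← mk_one_eq, mk_eq_frac, frac_smul_mk]

theorem smul_gen1_eq_zero {U : X.Opens} {g : Γ(L, U)} {x : X} {hx : x ∈ U} (hg : GenAt L g hx)
    {q : Mero.KStalk X x} (h : q • gen1 g x hx = 0) : q = 0 := by
  obtain ⟨a, s, rfl⟩ := IsLocalization.exists_mk'_eq (Mero.regStalk X x) q
  rw [frac_smul_mk] at h
  obtain ⟨t, ht⟩ := LocalizedModule.mk_eq.1 (h.trans (LocalizedModule.zero_mk 1).symm)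
  rw [one_smul, smul_zero, smul_zero, Submonoid.smul_def, smul_smul] at ht
  have h1 : (t : X.presheaf.stalk x) * a = 0 := hg.1 (ht.trans (zero_smul _ _).symm)
  rw [(mem_nonZeroDivisors_iff.1 (Mero.regStalk_le_nonZeroDivisors x t.2)).1 a h1]
  exact IsLocalization.mk'_zero _

theorem smul_gen1_cancel {U : X.Opens} {g : Γ(L, U)} {x : X} {hx : x ∈ U} (hg : GenAt L g hx)
    {q q' : Mero.KStalk X x} (h : q • gen1 g x hx = q' • gen1 g x hx) : q = q' :=
  sub_eq_zero.1 (smul_gen1_eq_zero hg (by rw [sub_smul, h, sub_self]))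

theorem exists_coeff_at {U : X.Opens} {g : Γ(L, U)} {x : X} {hx : x ∈ U} (hg : GenAt L g hx)
    (t : Mero.MStalk L x) : ∃ q : Mero.KStalk X x, q • gen1 g x hx = t := by
  induction t using LocalizedModule.induction_on with
  | _ m s =>
    obtain ⟨a, rfl⟩ := hg.2 m
    exact ⟨frac a s, frac_smul_mk _ _ _⟩

/-- The section `u • g`. -/
def smulGen {U : X.Opens} (u : Γ(Mero.kmod X, U)) (g : Γ(L, U)) : Γ(Mero.merMod L, U) :=
  ⟨fun x => val u x.1 x.2 • gen1 g x.1 x.2, fun x => by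
    obtain ⟨W, hxW, i, a, b, h⟩ := u.2 x
    refine ⟨W, hxW, i, a • res L i.le g, b, fun y => ?_⟩
    have h1 : val u y.1 (i.le y.2) = frac (X.presheaf.germ W y.1 y.2 a) (Mero.regGerm y b) :=
      (h y).trans (mk_eq_frac _ _)
    show val u y.1 (i.le y.2) • gen1 g y.1 (i.le y.2) = _
    rw [h1, frac_smul_mk, AmpleLib.germ_smul, AmpleLib.germ_res]⟩

theorem mval_smulGen {U : X.Opens} (u : Γ(Mero.kmod X, U)) (g : Γ(L, U)) (x : X) (hx : x ∈ U) :
    mval (smulGen u g) x hx = val u x hx • gen1 g x hx := rfl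

theorem exists_coeff {U : X.Opens} {g : Γ(L, U)} (hg : GenOn L g) (s : Γ(Mero.merMod L, U)) :
    ∃ u : Γ(Mero.kmod X, U), ∀ x hx, mval s x hx = val u x hx • gen1 g x hx := by
  choose c hc using fun x : U => exists_coeff_at (hg.genAt x.2) (s.1 x)
  refine ⟨⟨c, fun x => ?_⟩, fun x hx => (hc ⟨x, hx⟩).symm⟩
  obtain ⟨V, hxV, i, m, b, w⟩ := s.2 x
  obtain ⟨r, rfl⟩ := (hg V i.le).2 m
  refine ⟨V, hxV, i, r, b, fun y => (smul_gen1_cancel (hg.genAt (i.le y.2)) ((hc (i y)).trans ?_)).trans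
    (mk_eq_frac _ _).symm⟩
  refine (w y).trans ?_
  rw [AmpleLib.germ_smul, AmpleLib.germ_res, frac_smul_mk]

theorem isUnit_fracSec {U : X.Opens} {a : Γ(X, U)} (ha : a ∈ Mero.regSub X U) (b : Mero.regSub X U) :
    IsUnit (fracSec a b) := by
  have := isUnit_toK (⟨a, ha⟩ : Mero.regSub X U)
  rw [← fracSec_mul a b] at this
  exact isUnit_of_mul_isUnit_left this

/-- Near every point a regular section is a unit times the generator. -/
theorem exists_unit_coeff {s : Γ(Mero.merMod L, ⊤)} (hs : Mero.IsRegularMero L s) {U : X.Opens}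
    {g : Γ(L, U)} (hg : GenOn L g) {x : X} (hx : x ∈ U) :
    ∃ (W : X.Opens) (hW : W ≤ U) (f : (Γ(Mero.kmod X, W))ˣ), x ∈ W ∧ ∀ y (hy : y ∈ W),
      mval s y (Opens.mem_top y) = val (f : Γ(Mero.kmod X, W)) y hy • gen1 g y (hW hy) := by
  obtain ⟨u, hu⟩ := exists_coeff hg ((Mero.merMod L).presheaf.map (homOfLE (le_top : U ≤ ⊤)).op s)
  obtain ⟨W, hW, a, b, hxW, hab⟩ := exists_frac u hx
  have hval : ∀ y (hy : y ∈ W), mval s y (Opens.mem_top y) = val (fracSec a b) y hy • gen1 g y (hW hy) :=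
    fun y hy => by rw [val_fracSec, ← hab y hy]; exact hu y (hW hy)
  have ha : a ∈ Mero.regSub X W := fun y => by
    refine mem_nonZeroDivisors_iff_right.2 fun c hc => Mero.algebraMap_KStalk_injective y.1 ?_
    rw [map_zero]
    refine hs y.1 _ ((congrArg _ (hval y.1 y.2)).trans ?_)
    rw [smul_smul, val_fracSec, frac, IsLocalization.mul_mk'_eq_mk'_of_mul, hc, IsLocalization.mk'_zero, zero_smul]
  exact ⟨W, hW, (isUnit_fracSec ha b).unit, hxW, fun y hy => by rw [IsUnit.unit_spec]; exact hval y hy⟩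

theorem isRegular_of_local (s : Γ(Mero.merMod L, ⊤))
    (h : ∀ x : X, ∃ (W : X.Opens) (hx : x ∈ W) (g : Γ(L, W)) (f : (Γ(Mero.kmod X, W))ˣ), GenAt L g hx ∧
      mval s x (Opens.mem_top x) = val (f : Γ(Mero.kmod X, W)) x hx • gen1 g x hx) :
    Mero.IsRegularMero L s := fun x q hq => by
  obtain ⟨W, hx, g, f, hg, hf⟩ := h x
  change q • mval s x _ = 0 at hq
  rw [hf, smul_smul] at hq
  exact (f.isUnit.map (Mero.evalK X W ⟨x, hx⟩)).mul_left_eq_zero.1 (smul_gen1_eq_zero hg hq)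

theorem mul_inv_eq {R : Type*} [CommRing R] {a a' b b' c : R} (ha : a * a' = 1) (hb : b * b' = 1) (h : a = b * c) :
    c * a' = b' :=
  calc c * a' = b * b' * (c * a') := by rw [hb, one_mul]
    _ = b' * (b * c * a') := by ring
    _ = b' := by rw [← h, ha, mul_one]

/-- Generators at a point differ by units. -/
theorem germOf_eq {U V : X.Opens} {g : Γ(L, U)} {g' : Γ(L, V)} {x : X} {hx : x ∈ U} {hx' : x ∈ V}
    (hg : GenAt L g hx) (hg' : GenAt L g' hx') (f : (Γ(Mero.kmod X, U))ˣ) (f' : (Γ(Mero.kmod X, V))ˣ)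
    (h : val (f : Γ(Mero.kmod X, U)) x hx • gen1 g x hx = val (f' : Γ(Mero.kmod X, V)) x hx' • gen1 g' x hx') :
    Mero.germOf f ⟨x, hx⟩ = Mero.germOf f' ⟨x, hx'⟩ := by
  obtain ⟨c, hc⟩ := hg'.2 (L.presheaf.germ U x hx g)
  obtain ⟨d, hd⟩ := hg.2 (L.presheaf.germ V x hx' g')
  have h1 : c * d = 1 := hg.1 (by
    simp only at hc hd ⊢
    rw [mul_smul, hd, hc, one_smul])
  simp only at hc
  rw [gen1, ← hc, ← mul_one (1 : Mero.regStalk X x), ← frac_smul_mk, mul_one, smul_smul] at h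
  have h2 := smul_gen1_cancel hg' h
  rw [frac, IsLocalization.mk'_one] at h2
  refine QuotientGroup.eq.2 ?_
  rw [← QuotientGroup.eq_one_iff, mk_eq_one_iff]
  refine ⟨⟨c, d, h1, (mul_comm _ _).trans h1⟩, ?_⟩
  change algebraMap _ _ c = _
  rw [Units.val_mul]
  exact ((congrArg _ h2.symm).trans
    (Units.inv_mul_cancel_left (Units.map (Mero.evalK X U ⟨x, hx⟩).toMonoidHom f) _)).symm

/-- An invertible module with a regular meromorphic section is the module of a divisor. -/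
theorem exists_iso_of_regular (hL : PicF.IsInvertible L) {s : Γ(Mero.merMod L, ⊤)}
    (hs : Mero.IsRegularMero L s) : ∃ D : Mero.Divisor X, Nonempty (L ≅ Mero.divMod D) := by
  choose U g hxU hg using fun x : X => TwistLib.exists_genOn hL x
  choose W hW f hxW hf using fun x : X => exists_unit_coeff hs (hg x) (hxU x)
  have hD : ∀ (a : X) (y : W a), Mero.germOf (f y.1) ⟨y.1, hxW y.1⟩ = Mero.germOf (f a) y := fun a y =>
    germOf_eq (g := res L (hW y.1) (g y.1)) (g' := res L (hW a) (g a)) (((hg _).res _).genAt _)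
      (((hg _).res _).genAt _) _ _ (by rw [gen1_res, gen1_res, ← hf, ← hf])
  let D : Mero.Divisor X := ⟨fun x => Mero.germOf (f x) ⟨x, hxW x⟩, fun x => ⟨W x, hxW x, f x, hD x⟩⟩
  let e : ∀ x, Γ(L, W x) := fun x => res L (hW x) (g x)
  let e' : ∀ x, Γ(Mero.divMod D, W x) := fun x => gen (D := D) (f x) (hD x)
  obtain ⟨β, hβ⟩ := TwistLib.exists_hom_of_gens W e e' (fun x => ⟨x, hxW x⟩) (fun x => (hg x).res (hW x))
    fun a b V ha hb c hc => dext fun y hy => by
      have h1 := congrArg (fun t => gen1 t y hy) hc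
      simp only [e, gen1_smul, gen1_res] at h1
      have h2 := (hf a y (ha hy)).symm.trans (hf b y (hb hy))
      change val (f a : Γ(Mero.kmod X, W a)) y _ • gen1 (g a) y _ = val (f b : Γ(Mero.kmod X, W b)) y _ • _ at h2
      rw [← h1, smul_smul] at h2
      have h3 := smul_gen1_cancel ((hg a).genAt _) h2
      rw [dval_smul, dval_res, dval_res, dval_gen, dval_gen]
      exact mul_inv_eq (val_mul_inv (f a) y (ha hy)) (val_mul_inv (f b) y (hb hy)) h3
  haveI := TwistLib.isIso_of_gen β fun x => ⟨W x, hxW x, e x, ((hg x).res _).genAt _, by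
    rw [hβ x]; exact (genOn_gen _ _).genAt _⟩
  exact ⟨D, ⟨asIso β⟩⟩

end MeroLib

end
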