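import Groth.Agent.MeroLib.ZeroScheme
import Groth.Agent.MeroLib.RegSec

/-!
# Divisors of sections
-/

set_option autoImplicit false
universe u

open CategoryTheory AlgebraicGeometry TopologicalSpace Opposite
open AmpleLib (GenAt GenOn res)
open scoped nonZeroDivisors

noncomputable section

namespace MeroLib

variable {X : Scheme.{u}} {L : X.Modules}

/-- A regular function as a unit of `K`. -/
def toKUnit {U : X.Opens} (c : Mero.regSub X U) : (Γ(Mero.kmod X, U))ˣ := (isUnit_toK c).unit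

theorem val_toKUnit {U : X.Opens} (c : Mero.regSub X U) (x : X) (hx : x ∈ U) :
    val (toKUnit c : Γ(Mero.kmod X, U)) x hx = algebraMap _ (Mero.KStalk X x) (X.presheaf.germ U x hx c.1) := by
  rw [toKUnit, IsUnit.unit_spec, val_toK]

theorem germOf_toKUnit {U : X.Opens} (c : Mero.regSub X U) (y : U) :
    Mero.germOf (toKUnit c) y = QuotientGroup.mk (regUnit (Mero.regGerm y c)) :=
  congrArg _ (Units.ext (val_toKUnit c y.1 y.2))

/-- A section with regular coefficients cuts out a divisor whose module is the given one. -/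
theorem exists_div_of_section (hL : PicF.IsInvertible L) (s : Coh.structureModule X ⟶ L)
    (h : ∀ x : X, ∃ (W : X.affineOpens) (g : Γ(L, W.1)) (c : Mero.regSub X W.1),
      x ∈ W.1 ∧ GenOn L g ∧ c.1 • g = secOn s W.1) :
    ∃ D : Mero.Divisor X, Mero.IsDivOfIdeal D (PicF2.zeroScheme L s) ∧
      ∃ e : L ≅ Mero.divMod D, (Mero.divModι D).app ⊤ (e.hom.app ⊤ (secOn s ⊤)) = 1 := by
  choose W g c hxW hg hc using h
  have hkey : ∀ (a b : X) (y : X) (ha : y ∈ (W a).1) (hb : y ∈ (W b).1),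
      algebraMap _ (Mero.KStalk X y) (X.presheaf.germ _ y ha (c a).1) • gen1 (g a) y ha =
        algebraMap _ (Mero.KStalk X y) (X.presheaf.germ _ y hb (c b).1) • gen1 (g b) y hb := fun a b y ha hb => by
    rw [← gen1_smul, ← gen1_smul, hc, hc, ← secOn_res s (le_top : (W a).1 ≤ ⊤),
      ← secOn_res s (le_top : (W b).1 ≤ ⊤), gen1_res, gen1_res]
  have hD : ∀ (a : X) (y : (W a).1),
      Mero.germOf (toKUnit (c y.1)) ⟨y.1, hxW y.1⟩ = Mero.germOf (toKUnit (c a)) y := fun a y =>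
    germOf_eq ((hg _).genAt _) ((hg _).genAt _) _ _ (by rw [val_toKUnit, val_toKUnit]; exact hkey _ _ _ _ _)
  let D : Mero.Divisor X := ⟨fun x => Mero.germOf (toKUnit (c x)) ⟨x, hxW x⟩,
    fun x => ⟨(W x).1, hxW x, toKUnit (c x), hD x⟩⟩
  refine ⟨D, fun x => ⟨W x, hxW x, (c x).1, (c x).2, zeroScheme_ideal_of_genOn hL s (hg x) (hc x),
    fun y => (hD x y).trans (germOf_toKUnit (c x) y)⟩, ?_⟩
  let e' : ∀ x, Γ(Mero.divMod D, (W x).1) := fun x => gen (D := D) (toKUnit (c x)) (hD x)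
  obtain ⟨β, hβ⟩ := TwistLib.exists_hom_of_gens (fun x => (W x).1) g e' (fun x => ⟨x, hxW x⟩) hg
    fun a b V ha hb d hd => dext fun y hy => by
      have h1 := congrArg (fun t => gen1 t y hy) hd
      simp only [gen1_smul, gen1_res] at h1
      have h2 := hkey a b y (ha hy) (hb hy)
      rw [← h1, smul_smul, ← val_toKUnit, ← val_toKUnit] at h2
      rw [dval_smul, dval_res, dval_res, dval_gen, dval_gen]
      exact mul_inv_eq (val_mul_inv _ y (ha hy)) (val_mul_inv _ y (hb hy)) (smul_gen1_cancel ((hg a).genAt _) h2)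
  haveI := TwistLib.isIso_of_gen β fun x => ⟨(W x).1, hxW x, g x, (hg x).genAt _, by
    rw [hβ x]; exact (genOn_gen _ _).genAt _⟩
  refine ⟨asIso β, ext fun y hy => ?_⟩
  have h3 : β.app (W y).1 (secOn s (W y).1) = (c y).1 • e' y := by
    rw [← hc y, Scheme.Modules.Hom.app_smul, hβ]
  rw [← secOn_res s (le_top : (W y).1 ≤ ⊤), app_res'] at h3
  have h4 := congrArg (fun t => dval t y (hxW y)) h3
  simp only [dval_smul, dval_gen, e', dval_res] at h4
  rw [← val_toKUnit, val_mul_inv] at h4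
  exact h4.trans (map_one _).symm

theorem dcond_one (D : Mero.Divisor X) (hD : Mero.IsEffective D) (x : X) : Mero.DivCond D x 1 := by
  obtain ⟨a, ha⟩ := hD x
  exact (divCond_iff ha _).2 ⟨(a : X.presheaf.stalk x), by rw [one_mul]; rfl⟩

/-- An effective divisor is the zero scheme of its canonical section. -/
theorem exists_section_of_effective (hL : PicF.IsInvertible L) (D : Mero.Divisor X) (hD : Mero.IsEffective D)
    (e : L ≅ Mero.divMod D) :
    ∃ s : Coh.structureModule X ⟶ L, (∀ x : X, ∃ U : X.Opens, x ∈ U ∧ secOn s U ≠ 0) ∧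
      Mero.IsDivOfIdeal D (PicF2.zeroScheme L s) := by
  let one : Γ(Mero.divMod D, ⊤) := mkDiv 1 fun x _ => by rw [val, map_one]; exact dcond_one D hD x
  let s : Coh.structureModule X ⟶ L := QCohLib.unitHom L (e.inv.app ⊤ one)
  have hsec : ∀ U : X.Opens, secOn s U = res L le_top (e.inv.app ⊤ one) := fun U =>
    (QCohLib.unitHom_app L _ U (1 : Γ(X, U))).trans (one_smul _ _)
  have key : ∀ x : X, ∃ (W : X.affineOpens) (g : Γ(L, W.1)) (c : Mero.regSub X W.1), x ∈ W.1 ∧ GenOn L g ∧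
      c.1 • g = secOn s W.1 ∧ ∀ y : W.1, D.1 y.1 = QuotientGroup.mk (regUnit (Mero.regGerm y c)) := by
    intro x
    obtain ⟨U, hx, f, hf⟩ := D.2 x
    have h1 := (divCond_iff (hf ⟨x, hx⟩) 1).1 (dcond_one D hD x)
    rw [one_mul] at h1
    obtain ⟨O, hO, r, hxO, hr⟩ := exists_nhd_range (f : Γ(Mero.kmod X, U)) hx h1
    obtain ⟨W, hW, hxW, hWO'⟩ := exists_isAffineOpen_mem_and_subset (x := x) (U := O) hxO
    have hWO : W ≤ O := fun y hy => hWO' hy
    have hWU : W ≤ U := fun y hy => hO (hWO hy)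
    let c : Γ(X, W) := X.presheaf.map (homOfLE hWO).op r
    have hcf : ∀ y (hy : y ∈ W), algebraMap _ (Mero.KStalk X y) (X.presheaf.germ W y hy c) =
        val (f : Γ(Mero.kmod X, U)) y (hWU hy) := fun y hy => by
      rw [hr y (hWO hy), germ_res]
    have hcreg : c ∈ Mero.regSub X W := fun y => mem_nonZeroDivisors_iff_right.2 fun z hz =>
      Mero.algebraMap_KStalk_injective y.1 (by
        rw [map_zero]
        refine (f.isUnit.map (Mero.evalK X U ⟨y.1, hWU y.2⟩)).mul_left_eq_zero.1 ?_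
        change _ * val (f : Γ(Mero.kmod X, U)) y.1 (hWU y.2) = 0
        rw [← hcf y.1 y.2, ← map_mul, hz, map_zero])
    refine ⟨⟨W, hW⟩, e.inv.app W (res (Mero.divMod D) hWU (gen f hf)), ⟨c, hcreg⟩, hxW,
      genOn_iso e.inv ((genOn_gen f hf).res hWU), ?_, fun y => ?_⟩
    · rw [hsec, ← Scheme.Modules.Hom.app_smul, ← app_res']
      refine congrArg _ (dext fun y hy => ?_)
      rw [dval_smul, dval_res, dval_res, dval_gen, hcf, val_mul_inv]
      exact (map_one (Mero.evalK X ⊤ ⟨y, Opens.mem_top y⟩)).symm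
    · refine (hf ⟨y.1, hWU y.2⟩).trans (congrArg _ (Units.ext ?_))
      exact (hcf y.1 y.2).symm
  refine ⟨s, fun x => ?_, fun x => ?_⟩
  · obtain ⟨W, g, c, hxW, hg, hc, -⟩ := key x
    refine ⟨W.1, hxW, fun h => ?_⟩
    rw [← hc] at h
    have h1 : c.1 = 0 := (hg W.1 le_rfl).1 (by simp only [AmpleLib.res_refl, zero_smul]; exact h)
    exact (nonZeroDivisors.ne_zero (c.2 ⟨x, hxW⟩)) (by rw [h1, map_zero])
  · obtain ⟨W, g, c, hxW, hg, hc, hy⟩ := key x
    exact ⟨W, hxW, c.1, c.2, zeroScheme_ideal_of_genOn hL s hg hc, hy⟩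

end MeroLib

end
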